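import Cfsg.Agent.Lib.TwoRank.DEightWreath
import Cfsg.Agent.Lib.NoSCN.Pair

/-!
Sections of a group of sectional 2-rank at most four with an element of order five and an inverting
element.
-/

set_option autoImplicit false
set_option linter.unusedSectionVars false
set_option linter.style.haveILetI false

namespace CfsgLib.RankFourRadical

open scoped commutatorElement
open CfsgLib.TwoRank

variable {Y : Type*} [Group Y] [Finite Y]

theorem rank_quot {k : ℕ} (hr : Cfsg.SectionalPRankLE 2 k Y) (N : Subgroup Y) [N.Normal] :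
    Cfsg.SectionalPRankLE 2 k (Y ⧸ N) := by
  have hcard : ∀ Z : Subgroup (Y ⧸ N),
      Nat.card (Z.comap (QuotientGroup.mk' N)) = Nat.card Z * Nat.card N := by
    intro Z
    have h := ((QuotientGroup.mk' N).subgroupComap Z).ker.card_mul_index
    rw [Subgroup.index_ker, MonoidHom.range_eq_top.2
      (MonoidHom.subgroupComap_surjective_of_surjective _ _ (QuotientGroup.mk'_surjective N)),
      Subgroup.card_top] at h
    rw [← h, mul_comm]
    congr 1
    refine Nat.card_congr ⟨fun g => ⟨g.1.1, ?_⟩, fun n => ⟨⟨n.1, ?_⟩, ?_⟩, fun g => rfl, fun n => rfl⟩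
    · exact (QuotientGroup.eq_one_iff _).1 (congrArg Subtype.val g.2)
    · show QuotientGroup.mk' N n ∈ Z
      rw [show QuotientGroup.mk' N (n : Y) = 1 from (QuotientGroup.eq_one_iff _).2 n.2]
      exact one_mem Z
    · exact Subtype.ext ((QuotientGroup.eq_one_iff _).2 n.2)
  refine sectional_of_sqLE fun X K h => ?_
  have h' := CfsgLib.DEightWreath.card_le_of_sectional hr
    (X := X.comap (QuotientGroup.mk' N)) (K := K.comap (QuotientGroup.mk' N))
    ⟨Subgroup.comap_mono h.1, fun x hx => by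
      show QuotientGroup.mk' N (x * x) ∈ K
      rw [map_mul]; exact h.2 _ hx⟩
  rw [hcard, hcard, ← mul_assoc] at h'
  exact Nat.le_of_mul_le_mul_right h' Nat.card_pos

/-- An element of order five fixes a point in every invariant coset of a 2-group. -/
theorem exists_fixed {a : Y} (ha : a ^ 5 = 1) {B : Subgroup Y} (hB : IsPGroup 2 B)
    (hinv : ∀ b ∈ B, a * b * a⁻¹ ∈ B) {x : Y} (hx : ⁅a, x⁆ ∈ B) :
    ∃ c, c * x⁻¹ ∈ B ∧ ⁅a, c⁆ = 1 := by
  haveI : Fact (Nat.Prime 5) := ⟨by norm_num⟩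
  haveI : Fact (Nat.Prime 2) := ⟨Nat.prime_two⟩
  let α := {c : Y // c * x⁻¹ ∈ B}
  haveI := Fintype.ofFinite α
  have hstep : ∀ c : α, a * c * a⁻¹ * x⁻¹ ∈ B := fun c => by
    have e : a * c * a⁻¹ * x⁻¹ = (a * ((c : Y) * x⁻¹) * a⁻¹) * ⁅a, x⁆ := by
      simp only [commutatorElement_def]; group
    rw [e]; exact mul_mem (hinv _ c.2) hx
  let f : α → α := fun c => ⟨a * c * a⁻¹, hstep c⟩
  have hinj : Function.Injective f := fun c d h => Subtype.ext (by
    simpa [f] using congrArg Subtype.val h)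
  let σ : Equiv.Perm α := Equiv.ofBijective f (Finite.injective_iff_bijective.1 hinj)
  have hpow : ∀ (n : ℕ) (c : α), ((σ ^ n) c : Y) = a ^ n * c * (a ^ n)⁻¹ := by
    intro n
    induction n with
    | zero => intro c; simp
    | succ n ih =>
      intro c
      rw [pow_succ', Equiv.Perm.mul_apply]
      show a * ((σ ^ n) c : Y) * a⁻¹ = _
      rw [ih, pow_succ']
      group
  have hσ : σ ^ 5 ^ 1 = 1 := Equiv.ext fun c => Subtype.ext (by
    rw [pow_one, hpow, ha]; simp)
  have hcard : ¬ 5 ∣ Fintype.card α := by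
    rw [← Nat.card_eq_fintype_card, Nat.card_congr ((Equiv.mulRight x⁻¹).subtypeEquiv
      (fun _ => Iff.rfl) : α ≃ B)]
    obtain ⟨n, hn⟩ := hB.exists_card_eq
    rw [hn]
    intro h
    exact absurd ((Nat.prime_dvd_prime_iff_eq (by norm_num) Nat.prime_two).1
      ((Fact.out : Nat.Prime 5).dvd_of_dvd_pow h)) (by norm_num)
  obtain ⟨c, hc⟩ := Equiv.Perm.exists_fixed_point_of_prime hcard hσ
  refine ⟨c, c.2, ?_⟩
  have h : a * (c : Y) * a⁻¹ = c := congrArg Subtype.val hc
  rw [commutatorElement_def, h, mul_inv_cancel]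

/-- An element of order five acts trivially or without fixed points on a small 2-group. -/
theorem dichotomy {a : Y} (ha : a ^ 5 = 1) (V : Subgroup Y) (hV : IsPGroup 2 V)
    (hinv : ∀ v ∈ V, a * v * a⁻¹ ∈ V) (hle : Nat.card V ≤ 16) :
    (∀ v ∈ V, ⁅a, v⁆ = 1) ∨ (Nat.card V = 16 ∧ ∀ v ∈ V, ⁅a, v⁆ = 1 → v = 1) := by
  classical
  haveI : Fact (Nat.Prime 5) := ⟨by norm_num⟩
  haveI := Fintype.ofFinite V
  let f : V → V := fun v => ⟨a * v * a⁻¹, hinv v v.2⟩
  have hinj : Function.Injective f := fun c d h => Subtype.ext (by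
    simpa [f] using congrArg Subtype.val h)
  let σ : Equiv.Perm V := Equiv.ofBijective f (Finite.injective_iff_bijective.1 hinj)
  have hpow : ∀ (n : ℕ) (c : V), ((σ ^ n) c : Y) = a ^ n * c * (a ^ n)⁻¹ := by
    intro n
    induction n with
    | zero => intro c; simp
    | succ n ih =>
      intro c
      rw [pow_succ', Equiv.Perm.mul_apply]
      show a * ((σ ^ n) c : Y) * a⁻¹ = _
      rw [ih, pow_succ']
      group
  have hσ : σ ^ 5 ^ 1 = 1 := Equiv.ext fun c => Subtype.ext (by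
    rw [pow_one, hpow, ha]; simp)
  have hG : IsPGroup 5 (Subgroup.zpowers σ) := by
    rintro ⟨g, i, rfl⟩
    exact ⟨1, Subtype.ext (by
      show (σ ^ i) ^ (5 ^ 1) = 1
      rw [← zpow_natCast (σ ^ i), ← zpow_mul, mul_comm, zpow_mul, zpow_natCast, hσ, one_zpow])⟩
  have hmod := hG.card_modEq_card_fixedPoints V
  let F : Subgroup Y := V ⊓ Subgroup.centralizer {a}
  have hF : Nat.card (MulAction.fixedPoints (Subgroup.zpowers σ) V) = Nat.card F := by
    refine Nat.card_congr ⟨fun v => ⟨v.1.1, v.1.2, ?_⟩, fun y => ⟨⟨y.1, y.2.1⟩, ?_⟩, fun v => rfl,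
      fun y => rfl⟩
    · have h : σ v.1 = v.1 := v.2 ⟨σ, Subgroup.mem_zpowers σ⟩
      have h' : a * (v.1 : Y) * a⁻¹ = v.1 := congrArg Subtype.val h
      exact Subgroup.mem_centralizer_singleton_iff.2 (mul_inv_eq_iff_eq_mul.1 h').symm
    · intro g
      obtain ⟨g, hg⟩ := g
      have h1 : σ ∈ MulAction.stabilizer (Equiv.Perm V) (⟨y.1, y.2.1⟩ : V) := by
        refine Subtype.ext (?_ : a * y.1 * a⁻¹ = y.1)
        rw [← Subgroup.mem_centralizer_singleton_iff.1 y.2.2, mul_inv_cancel_right]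
      exact (Subgroup.zpowers_le.2 h1) hg
  rw [hF] at hmod
  haveI : Fact (Nat.Prime 2) := ⟨Nat.prime_two⟩
  obtain ⟨k, hk⟩ := hV.exists_card_eq
  obtain ⟨i, hi, hi'⟩ := (Nat.dvd_prime_pow Nat.prime_two).1
    (hk ▸ Subgroup.card_dvd_of_le (inf_le_left : F ≤ V))
  have hk4 : k ≤ 4 := by
    by_contra h
    have := Nat.pow_le_pow_right (show 1 ≤ 2 by norm_num) (show 5 ≤ k by omega)
    omega
  rw [hk, hi'] at hmod
  have hc : i = k ∨ (k = 4 ∧ i = 0) := by
    interval_cases k <;> interval_cases i <;> simp_all [Nat.ModEq]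
  rcases hc with rfl | ⟨rfl, rfl⟩
  · refine Or.inl fun v hv => ?_
    have hFV : F = V := Subgroup.eq_of_le_of_card_ge inf_le_left (le_of_eq (hk.trans hi'.symm))
    rw [commutatorElement_eq_one_iff_mul_comm]
    exact (Subgroup.mem_centralizer_singleton_iff.1 ((hFV.ge hv).2)).symm
  · refine Or.inr ⟨by rw [hk]; norm_num, fun v hv h => ?_⟩
    have hb : F = ⊥ := Subgroup.card_eq_one.1 (by rw [hi']; norm_num)
    have : v ∈ F := ⟨hv, Subgroup.mem_centralizer_singleton_iff.2
      (commutatorElement_eq_one_iff_mul_comm.1 h).symm⟩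
    rwa [hb, Subgroup.mem_bot] at this

/-- An involution inverting a fixed point free element of order five has four fixed points, all of
them norms. -/
theorem half {a t : Y} (ha : a ^ 5 = 1) (ht : t * t = 1) (hta : t * a * t⁻¹ = a⁻¹) (V : Subgroup Y)
    (hc : ∀ u ∈ V, ∀ v ∈ V, u * v = v * u) (h2 : ∀ v ∈ V, v * v = 1)
    (hav : ∀ v ∈ V, a * v * a⁻¹ ∈ V) (htv : ∀ v ∈ V, t * v * t ∈ V) (hcard : Nat.card V = 16)
    (hfpf : ∀ v ∈ V, ⁅a, v⁆ = 1 → v = 1) :
    Nat.card (V ⊓ Subgroup.centralizer {t} : Subgroup Y) = 4 ∧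
      ∀ f ∈ V ⊓ Subgroup.centralizer {t}, ∃ v ∈ V, f = v * (t * v * t) := by
  set F := V ⊓ Subgroup.centralizer {t} with hFdef
  have htinv : t⁻¹ = t := inv_eq_of_mul_eq_one_right ht
  have hFt : ∀ f ∈ F, t * f * t = f := fun f hf => by
    rw [← Subgroup.mem_centralizer_singleton_iff.1 hf.2, mul_assoc, ht, mul_one]
  let ψ : V →* Y := MonoidHom.mk' (fun v => v * (t * v * t)) fun u v => by
    show (u : Y) * v * (t * (u * v) * t) = (u : Y) * (t * u * t) * (v * (t * v * t))
    have e : t * ((u : Y) * v) * t = (t * u * t) * (t * v * t) := by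
      calc t * ((u : Y) * v) * t = t * u * (t * t) * v * t := by rw [ht]; group
        _ = _ := by group
    rw [e]
    calc (u : Y) * v * (t * u * t * (t * v * t)) = (u : Y) * (v * (t * u * t)) * (t * v * t) := by group
      _ = (u : Y) * ((t * u * t) * v) * (t * v * t) := by rw [hc _ v.2 _ (htv _ u.2)]
      _ = _ := by group
  have hr : ψ.range ≤ F := by
    rintro _ ⟨v, rfl⟩
    refine ⟨mul_mem v.2 (htv _ v.2), ?_⟩
    show (v : Y) * (t * v * t) ∈ Subgroup.centralizer ({t} : Set Y)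
    rw [Subgroup.mem_centralizer_singleton_iff]
    calc (v : Y) * (t * v * t) * t = ((v : Y) * t * v) * (t * t) := by group
      _ = (t * t) * ((v : Y) * t * v) := by rw [ht, one_mul, mul_one]
      _ = t * ((t * v * t) * v) := by group
      _ = t * ((v : Y) * (t * v * t)) := by rw [hc _ (htv _ v.2) _ v.2]
  have hk : ψ.ker = F.subgroupOf V := by
    ext v
    rw [MonoidHom.mem_ker, Subgroup.mem_subgroupOf]
    constructor
    · intro h
      refine ⟨v.2, ?_⟩
      have h' : t * (v : Y) * t = v := by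
        rw [← inv_eq_of_mul_eq_one_right (show (v : Y) * (t * v * t) = 1 from h),
          inv_eq_of_mul_eq_one_right (h2 _ v.2)]
      refine Subgroup.mem_centralizer_singleton_iff.2 ?_
      conv_lhs => rw [← h']
      rw [mul_assoc, ht, mul_one]
    · intro h
      show (v : Y) * (t * v * t) = 1
      rw [hFt _ h, h2 _ v.2]
  have hcardψ := ψ.ker.card_mul_index
  rw [Subgroup.index_ker, hk, Nat.card_congr (Subgroup.subgroupOfEquivOfLe inf_le_left).toEquiv,
    hcard] at hcardψ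
  have hle : Nat.card F * Nat.card F ≤ 16 := by
    rw [← Nat.card_prod, ← hcard]
    refine Nat.card_le_card_of_injective
      (fun p : F × F => (⟨p.1 * (a * p.2 * a⁻¹), mul_mem p.1.2.1 (hav _ p.2.2.1)⟩ : V)) ?_
    rintro ⟨f, g⟩ ⟨f', g'⟩ h
    have h' : (f : Y) * (a * g * a⁻¹) = f' * (a * g' * a⁻¹) := congrArg Subtype.val h
    set d : F := f'⁻¹ * f with hd
    set k : F := g' * g⁻¹ with hkdef
    have h1 : (d : Y) = a * k * a⁻¹ := by
      have e : (f : Y) = f' * (a * g' * a⁻¹) * (a * g * a⁻¹)⁻¹ := eq_mul_inv_of_mul_eq h'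
      rw [hd, hkdef, Subgroup.coe_mul, Subgroup.coe_inv, Subgroup.coe_mul, Subgroup.coe_inv, e]
      group
    have h3 : a * (k : Y) * a⁻¹ = a⁻¹ * k * a := by
      have hk' : t * (k : Y) * t⁻¹ = k := by rw [htinv]; exact hFt _ k.2
      calc a * (k : Y) * a⁻¹ = t * (d : Y) * t⁻¹ := by rw [htinv, hFt _ d.2, h1]
        _ = (t * a * t⁻¹) * (t * (k : Y) * t⁻¹) * (t * a * t⁻¹)⁻¹ := by rw [h1]; group
        _ = a⁻¹ * k * a := by rw [hk', hta, inv_inv]
    have h4 : ⁅a, (k : Y)⁆ = 1 := by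
      rw [commutatorElement_eq_one_iff_mul_comm]
      have h5 : Commute (a * a) (k : Y) := by
        calc a * a * (k : Y) = a * (a * k * a⁻¹) * a := by group
          _ = a * (a⁻¹ * k * a) * a := by rw [h3]
          _ = (k : Y) * (a * a) := by group
      have h6 : a = (a * a) ^ 3 := by
        rw [← pow_two, ← pow_mul, show 2 * 3 = 5 + 1 from rfl, pow_succ, ha, one_mul]
      rw [h6]
      exact (h5.pow_left 3).eq
    have hk1 : (k : Y) = 1 := hfpf _ k.2.1 h4
    have hg : g' = g := mul_inv_eq_one.1 (Subtype.ext hk1)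
    have hd1 : d = 1 := Subtype.ext (by rw [h1, hk1]; simp)
    exact Prod.ext (inv_mul_eq_one.1 hd1).symm hg.symm
  have h1 := Nat.le_of_dvd Nat.card_pos (Subgroup.card_dvd_of_le hr)
  rw [← hFdef] at hcardψ
  have h4 : Nat.card F = 4 := by
    rcases Nat.lt_or_ge (Nat.card F) 4 with h | h
    · have := Nat.mul_le_mul h.le (h1.trans_lt h).le
      nlinarith
    · rcases Nat.lt_or_ge (Nat.card F) 5 with h' | h'
      · omega
      · have := Nat.mul_le_mul h' h'
        omega
  refine ⟨h4, fun f hf => ?_⟩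
  have he : ψ.range = F := Subgroup.eq_of_le_of_card_ge hr (by rw [h4] at hcardψ ⊢; omega)
  obtain ⟨v, rfl⟩ := he.ge hf
  exact ⟨v, v.2, rfl⟩

end CfsgLib.RankFourRadical
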