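import Cfsg.Agent.Lib.RankFourRadical.Main
import Cfsg.Agent.Lib.OddOmega.Basic

/-!
The radical of a group of sectional 2-rank at most four over the alternating group of degree five.
-/

set_option autoImplicit false
set_option linter.unusedSectionVars false
set_option linter.style.haveILetI false

namespace CfsgLib.RankFourRadical

open scoped commutatorElement

abbrev A5 := ↥(alternatingGroup (Fin 5))

def fiveCycle : A5 := ⟨finRotate 5, Equiv.Perm.mem_alternatingGroup.2 (by decide)⟩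
def threeCycle : A5 := ⟨Equiv.swap 0 1 * Equiv.swap 1 2, Equiv.Perm.mem_alternatingGroup.2 (by decide)⟩
def negFive : A5 := ⟨Equiv.neg (Fin 5), Equiv.Perm.mem_alternatingGroup.2 (by decide)⟩

theorem five_pow : fiveCycle ^ 5 = 1 := by decide
theorem five_ne : fiveCycle ≠ 1 := by decide
theorem three_pow : threeCycle ^ 3 = 1 := by decide
theorem three_ne : threeCycle ≠ 1 := by decide
theorem neg_sq : negFive * negFive = 1 := by decide
theorem neg_conj : negFive * fiveCycle * negFive⁻¹ = fiveCycle⁻¹ := by decide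

variable {X : Type*} [Group X] [Finite X]

theorem exists_lift {B : Type*} [Group B] (f : X →* B) (hf : Function.Surjective f)
    (hker : IsPGroup 2 f.ker) {b : B} {n : ℕ} (hn : n ∣ 15) (hb : b ^ n = 1) :
    ∃ x, f x = b ∧ x ^ n = 1 := by
  obtain ⟨y, rfl⟩ := hf b
  have hy : y ^ n ∈ f.ker := by rw [MonoidHom.mem_ker, map_pow, hb]
  obtain ⟨k, hk⟩ := hker ⟨y ^ n, hy⟩
  have hk' : (y ^ n) ^ 2 ^ k = 1 := congrArg Subtype.val hk
  refine ⟨y ^ 16 ^ k, ?_, ?_⟩
  · rw [map_pow]
    have h15 : f y ^ 15 = 1 := by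
      obtain ⟨m, hm⟩ := hn
      rw [hm, pow_mul, hb, one_pow]
    rw [pow_eq_pow_mod _ h15, Nat.pow_mod]
    norm_num
  · rw [← pow_mul, mul_comm, pow_mul, show 16 ^ k = 2 ^ k * 8 ^ k by rw [← mul_pow]; norm_num,
      pow_mul, hk', one_pow]

theorem shape_of_alternating (Q : Subgroup X) [Q.Normal] (hQ2 : IsPGroup 2 Q)
    (hC : Subgroup.centralizer (Q : Set X) ≤ Q) (h4 : Cfsg.SectionalPRankLE 2 4 X) (f : X →* A5)
    (hf : Function.Surjective f) (hker : f.ker = Q) : Shape ↥Q := by
  haveI : Fact (Nat.Prime 2) := ⟨Nat.prime_two⟩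
  haveI : Fact (Nat.Prime 5) := ⟨by norm_num⟩
  have hk2 : IsPGroup 2 f.ker := hker ▸ hQ2
  have hmem : ∀ x, x ∈ Q ↔ f x = 1 := fun x => by rw [← hker, MonoidHom.mem_ker]
  obtain ⟨a, ha, ha5⟩ := exists_lift f hf hk2 (n := 5) (by norm_num) five_pow
  obtain ⟨u, hu, hu3⟩ := exists_lift f hf hk2 (n := 3) (by norm_num) three_pow
  obtain ⟨g, hg⟩ := hf negFive
  -- an element inverting `a`
  obtain ⟨t, ht, hta⟩ : ∃ t, f t = negFive ∧ t * a * t⁻¹ = a⁻¹ := by
    classical
    haveI := Fintype.ofFinite Q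
    set b := g * a * g⁻¹ with hb
    have hb5 : b ^ 5 = 1 := by rw [hb, conj_pow, ha5, mul_one, mul_inv_cancel]
    have hba : f b = f a⁻¹ := by rw [hb, map_mul, map_mul, map_inv, map_inv, hg, ha, neg_conj]
    let σ₀ : Q → Q := fun q => ⟨b * q * a, by
      rw [hmem, map_mul, map_mul, (hmem q).1 q.2, mul_one, hba, map_inv, inv_mul_cancel]⟩
    have hinj : Function.Injective σ₀ := fun p q h => Subtype.ext (by
      simpa [σ₀] using congrArg Subtype.val h)
    let σ : Equiv.Perm Q := Equiv.ofBijective σ₀ (Finite.injective_iff_bijective.1 hinj)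
    have hpow : ∀ (n : ℕ) (q : Q), ((σ ^ n) q : X) = b ^ n * q * a ^ n := by
      intro n
      induction n with
      | zero => intro q; simp
      | succ n ih =>
        intro q
        rw [pow_succ', Equiv.Perm.mul_apply]
        show b * ((σ ^ n) q : X) * a = _
        rw [ih, pow_succ', pow_succ]
        group
    obtain ⟨q, hq⟩ := Equiv.Perm.exists_fixed_point_of_prime (p := 5) (n := 1) (σ := σ) (by
      rw [← Nat.card_eq_fintype_card]
      obtain ⟨m, hm⟩ := hQ2.exists_card_eq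
      rw [hm]
      intro h
      exact absurd ((Nat.prime_dvd_prime_iff_eq (by norm_num) Nat.prime_two).1
        ((Fact.out : Nat.Prime 5).dvd_of_dvd_pow h)) (by norm_num))
      (Equiv.ext fun q => Subtype.ext (by rw [pow_one, hpow, hb5, ha5]; simp))
    have hq' : b * (q : X) * a = q := congrArg Subtype.val hq
    refine ⟨(q : X)⁻¹ * g, by rw [map_mul, map_inv, (hmem q).1 q.2, hg, inv_one, one_mul], ?_⟩
    calc (q : X)⁻¹ * g * a * ((q : X)⁻¹ * g)⁻¹ = (q : X)⁻¹ * (b * q * a) * a⁻¹ := by rw [hb]; group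
      _ = a⁻¹ := by rw [hq']; group
  let P := (frattini ↥Q).map Q.subtype
  haveI hPn : P.Normal := ConjAct.normal_of_characteristic_of_normal
  have hPQ : P ≤ Q := Subgroup.map_subtype_le _
  have hsq : ∀ x ∈ Q, x * x ∈ P := fun x hx =>
    ⟨⟨x, hx⟩ ^ 2, CfsgLib.OddOmega.pow_mem_frattini hQ2 _, by simp [pow_two]⟩
  have hgen : ∀ K : Subgroup X, (∀ x ∈ Q, x * x ∈ K) → P ≤ K := by
    intro K hK
    rw [Subgroup.map_le_iff_le_comap]
    let S0 : Subgroup Q := Subgroup.closure {y | ∃ x : Q, y = x * x}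
    have hS : ∀ x : Q, x * x ∈ S0 := fun x => Subgroup.subset_closure ⟨x, rfl⟩
    haveI : S0.Normal := ⟨fun n hn g => by
      rw [show g * n * g⁻¹ = ⁅g, n⁆ * n by simp only [commutatorElement_def]; group]
      exact mul_mem (CfsgLib.NoSCN.comm_mem_of_squares hS g n) hn⟩
    refine (CfsgLib.Critical.frattini_le_of_elementary (p := 2) S0 ?_ fun x => by
      rw [pow_two]; exact hS x).trans ?_
    · rw [commutator_def, Subgroup.commutator_le]
      exact fun x _ y _ => CfsgLib.NoSCN.comm_mem_of_squares hS x y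
    · rw [Subgroup.closure_le]
      rintro _ ⟨x, rfl⟩
      exact hK x x.2
  set π := QuotientGroup.mk' P with hπ
  have hcard := Setting.card_map_mul hPQ
  have hle : Nat.card (Q.map π) ≤ 16 := by
    have h := CfsgLib.DEightWreath.card_le_of_sectional h4 (X := Q) (K := P) ⟨hPQ, hsq⟩
    rw [← hcard] at h
    exact Nat.le_of_mul_le_mul_right h Nat.card_pos
  have haQ : a ∉ Q := fun h => five_ne (ha ▸ (hmem a).1 h)
  have hd := dichotomy (a := π a) (by rw [← map_pow, ha5, map_one]) (Q.map π) (hQ2.map π)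
    (by rintro _ ⟨x, hx, rfl⟩; exact ⟨a * x * a⁻¹, Subgroup.Normal.conj_mem inferInstance x hx a,
      by simp⟩) hle
  rcases hd with h | ⟨h16, hfix⟩
  · refine absurd (hC ?_) haQ
    have htop : (Subgroup.centralizer ({a} : Set X)).subgroupOf Q = ⊤ := by
      refine frattini_nongenerating (top_le_iff.1 fun x _ => ?_)
      have hx : ⁅a, (x : X)⁆ ∈ P := (QuotientGroup.eq_one_iff _).1 (by
        have := h _ ⟨(x : X), x.2, rfl⟩
        rwa [← map_commutatorElement] at this)
      obtain ⟨c, hc, hca⟩ := exists_fixed ha5 (hQ2.to_le hPQ)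
        (fun b hb => hPn.conj_mem b hb a) hx
      have hcQ : c ∈ Q := by
        have := mul_mem (hPQ hc) x.2
        simpa using this
      obtain ⟨p, hp, e⟩ := Subgroup.mem_map.1 hc
      have e' : x = p⁻¹ * ⟨c, hcQ⟩ := Subtype.ext (by
        rw [Subgroup.coe_mul, Subgroup.coe_inv, show (p : X) = c * (x : X)⁻¹ from e]; group)
      rw [e']
      exact mul_mem (Subgroup.mem_sup_right (inv_mem hp)) (Subgroup.mem_sup_left
        (Subgroup.mem_centralizer_singleton_iff.2 (commutatorElement_eq_one_iff_mul_comm.1 hca).symm))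
    refine Subgroup.mem_centralizer_iff.2 fun q hq => ?_
    exact Subgroup.mem_centralizer_singleton_iff.1
      (htop.ge (Subgroup.mem_top (⟨q, hq⟩ : Q)) : (⟨q, hq⟩ : Q) ∈ (Subgroup.centralizer ({a} : Set X)).subgroupOf Q)
  refine shape_of_setting (P := P) (a := a) (t := t) (u := u)
    ⟨inferInstance, hPn, hPQ, hQ2, h4, ha5, hu3, ?_, ?_, hta, ?_, hsq, hgen, ?_, ?_⟩
  · rw [hmem, map_mul, ht, neg_sq]
  · rw [commutatorElement_eq_one_iff_mul_comm]
    have h1 : t * t * a * (t * t)⁻¹ = a := by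
      calc t * t * a * (t * t)⁻¹ = t * (t * a * t⁻¹) * t⁻¹ := by group
        _ = t * a⁻¹ * t⁻¹ := by rw [hta]
        _ = (t * a * t⁻¹)⁻¹ := by group
        _ = a := by rw [hta, inv_inv]
    exact (mul_inv_eq_iff_eq_mul.1 h1).symm
  · intro N hN hQN hau
    have hmap : N.map f = ⊤ := by
      refine (hN.map f hf).eq_bot_or_eq_top.resolve_left fun hb => ?_
      rw [Subgroup.map_eq_bot_iff] at hb
      rcases hau with h | h
      · exact five_ne (ha.symm.trans (hb h))
      · exact three_ne (hu.symm.trans (hb h))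
    rw [eq_top_iff]
    intro x _
    obtain ⟨y, hy, e⟩ := Subgroup.mem_map.1 (hmap.ge (Subgroup.mem_top (f x)))
    have := mul_mem hy (hQN ((hmem _).2 (show f (y⁻¹ * x) = 1 by rw [map_mul, map_inv, e, inv_mul_cancel])))
    simpa using this
  · intro x hx hxP
    refine (QuotientGroup.eq_one_iff x).1 (hfix _ ⟨x, hx, rfl⟩ ?_)
    show ⁅π a, π x⁆ = 1
    rw [← map_commutatorElement]
    exact (QuotientGroup.eq_one_iff _).2 hxP
  · rw [← hcard, h16]

end CfsgLib.RankFourRadical
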