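import Mathlib

/-!
The orbits of an element of order five on a four-dimensional space over the field with two elements.
-/

set_option autoImplicit false

namespace CfsgLib.RankFourRadical.Code

/-- Coordinates. -/
abbrev C4 := ZMod 2 × ZMod 2 × ZMod 2 × ZMod 2

/-- The element of order five. -/
def sh (c : C4) : C4 := (c.2.2.2, c.1 + c.2.2.2, c.2.1 + c.2.2.2, c.2.2.1 + c.2.2.2)

def b0 : C4 := (1, 0, 0, 0)
def b1 : C4 := (0, 1, 0, 0)
def b2 : C4 := (0, 0, 1, 0)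
def b3 : C4 := (0, 0, 0, 1)

/-- The number of the orbit. -/
def cls (c : C4) : Fin 4 :=
  if c = 0 then 0
  else if c ∈ [b0, b1, b2, b3, (1, 1, 1, 1)] then 1
  else if c ∈ [(1, 1, 0, 0), (0, 1, 1, 0), (0, 0, 1, 1), (1, 1, 1, 0), (0, 1, 1, 1)] then 2
  else 3

/-- Representatives. -/
def rep : Fin 4 → C4 := ![0, b0, b0 + b1, b0 + b2]

theorem orbit : ∀ c : C4, ∃ i : Fin 5, c = sh^[i] (rep (cls c)) := by decide

theorem spans : ∀ c : C4, c ≠ 0 → ∃ d : C4, (if d.1 = 1 then c else 0) + (if d.2.1 = 1 then sh c else 0)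
    + (if d.2.2.1 = 1 then sh (sh c) else 0) + (if d.2.2.2 = 1 then sh (sh (sh c)) else 0) = b0 := by
  decide

theorem zero_of_shift {P : C4 → Prop} (h0 : P 0) (hadd : ∀ c d, P c → P d → P (c + d))
    (hsh : ∀ c, P c → P (sh c)) {c : C4} (hc : c ≠ 0) (h : P c) : P b0 := by
  obtain ⟨d, hd⟩ := spans c hc
  rw [← hd]
  refine hadd _ _ (hadd _ _ (hadd _ _ ?_ ?_) ?_) ?_ <;> split_ifs
  all_goals first
    | exact h0
    | exact h
    | exact hsh _ h
    | exact hsh _ (hsh _ h)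
    | exact hsh _ (hsh _ (hsh _ h))

/-- The linear map with given values on the basis. -/
def lin (a0 a1 a2 a3 : C4) (c : C4) : C4 :=
  (if c.1 = 1 then a0 else 0) + (if c.2.1 = 1 then a1 else 0) + (if c.2.2.1 = 1 then a2 else 0)
    + (if c.2.2.2 = 1 then a3 else 0)

theorem decomp : ∀ c : C4, c = lin b0 b1 b2 b3 c := by decide

theorem additive_eq_lin (L : C4 → C4) (hL : ∀ c d, L (c + d) = L c + L d) (c : C4) :
    L c = lin (L b0) (L b1) (L b2) (L b3) c := by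
  have h0 : L 0 = 0 := by
    have := hL 0 0
    rw [add_zero] at this
    exact left_eq_add.1 this
  conv_lhs => rw [decomp c]
  simp only [lin, hL, apply_ite L, h0]

set_option maxRecDepth 100000 in
set_option synthInstance.maxSize 5000 in
set_option synthInstance.maxHeartbeats 400000 in
theorem rigid : ∀ a0, cls a0 = 1 → ∀ a1, cls a1 = 1 → cls (a0 + a1) = 2 → ∀ a2, cls a2 = 1 →
    cls (a1 + a2) = 2 → cls (a0 + a2) = 3 → ∀ a3, cls a3 = 1 → cls (a2 + a3) = 2 →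
    cls (a1 + a3) = 3 → (∀ c, lin a0 a1 a2 a3 (lin a0 a1 a2 a3 (lin a0 a1 a2 a3 c)) = c) →
    a0 = b0 ∧ a1 = b1 ∧ a2 = b2 ∧ a3 = b3 := by
  decide +kernel

theorem eq_id (L : C4 → C4) (hL : ∀ c d, L (c + d) = L c + L d) (hcls : ∀ c, cls (L c) = cls c)
    (h3 : ∀ c, L (L (L c)) = c) (c : C4) : L c = c := by
  have e := additive_eq_lin L hL
  obtain ⟨h0, h1, h2, h3'⟩ := rigid (L b0) (by rw [hcls]; rfl) (L b1) (by rw [hcls]; rfl)
    (by rw [← hL, hcls]; rfl) (L b2) (by rw [hcls]; rfl) (by rw [← hL, hcls]; rfl)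
    (by rw [← hL, hcls]; rfl) (L b3) (by rw [hcls]; rfl) (by rw [← hL, hcls]; rfl)
    (by rw [← hL, hcls]; rfl) (fun c => by rw [← e, ← e, ← e]; exact h3 c)
  rw [e, h0, h1, h2, h3', ← decomp]

end CfsgLib.RankFourRadical.Code
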