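import Cfsg.Agent.Lib.RankFourRadical.Orbit

/-!
The radical is elementary abelian of order sixteen or a central product of a quaternion and a
dihedral group.
-/

set_option autoImplicit false
set_option linter.unusedSectionVars false
set_option linter.style.haveILetI false

namespace CfsgLib.RankFourRadical

open scoped commutatorElement
open Code

/-- The two possibilities for the radical. -/
def Shape (R : Type*) [Group R] : Prop :=
  ((∀ x y : R, x * y = y * x) ∧ (∀ x : R, x * x = 1) ∧ Nat.card R = 16) ∨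
    (Nat.card R = 32 ∧ ∃ A B : Subgroup R, Nonempty (↥A ≃* QuaternionGroup 2) ∧
      Nonempty (↥B ≃* DihedralGroup 4) ∧ (∀ a ∈ A, ∀ b ∈ B, a * b = b * a) ∧ A ⊔ B = ⊤ ∧
      A ⊓ B = Subgroup.center R)

theorem Shape.transfer {R R' : Type*} [Group R] [Group R'] (h : Shape R) (f : R ≃* R') : Shape R' := by
  rcases h with ⟨h1, h2, h3⟩ | ⟨h1, A, B, ⟨eA⟩, ⟨eB⟩, hc, hsup, hinf⟩
  · refine Or.inl ⟨fun x y => f.symm.injective (by rw [map_mul, map_mul, h1]),
      fun x => f.symm.injective (by rw [map_mul, h2, map_one]), ?_⟩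
    rw [← Nat.card_congr f.toEquiv, h3]
  · refine Or.inr ⟨by rw [← Nat.card_congr f.toEquiv, h1], A.map f.toMonoidHom, B.map f.toMonoidHom,
      ⟨(A.equivMapOfInjective _ f.injective).symm.trans eA⟩,
      ⟨(B.equivMapOfInjective _ f.injective).symm.trans eB⟩, ?_, ?_, ?_⟩
    · rintro _ ⟨a, ha, rfl⟩ _ ⟨b, hb, rfl⟩
      rw [← map_mul, hc a ha b hb, map_mul]
    · rw [← Subgroup.map_sup, hsup, Subgroup.map_top_of_surjective _ f.surjective]
    · rw [← Subgroup.map_inf _ _ _ f.injective, hinf]
      ext x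
      rw [Subgroup.mem_center_iff]
      constructor
      · rintro ⟨z, hz, rfl⟩ g
        have := congrArg f (Subgroup.mem_center_iff.1 hz (f.symm g))
        simpa using this
      · intro hx
        refine ⟨f.symm x, Subgroup.mem_center_iff.2 fun g => f.injective ?_, by simp⟩
        simpa using hx (f g)

theorem exists_dih_hom {H : Type*} [Group H] {x y : H} (hx : x * x = 1) (hy : y * y = 1)
    (hxy : (x * y) ^ 4 = 1) (hxy2 : (x * y) ^ 2 ≠ 1) (hxr : ∀ i : ℕ, x ≠ (x * y) ^ i) :
    ∃ f : DihedralGroup 4 →* H, Function.Injective f ∧ x ∈ f.range ∧ y ∈ f.range ∧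
      f.range ≤ Subgroup.closure {x, y} := by
  let r : ZMod 4 → H := fun i => (x * y) ^ i.val
  have hr : ∀ i j, r (i + j) = r i * r j := fun i j => by
    show (x * y) ^ (i + j).val = (x * y) ^ i.val * (x * y) ^ j.val
    rw [← pow_add, ZMod.val_add, ← pow_eq_pow_mod _ hxy]
  have hr0 : r 0 = 1 := by simp [r]
  have hneg : ∀ i, r (-i) = (r i)⁻¹ := fun i => eq_inv_of_mul_eq_one_left (by
    rw [← hr, neg_add_cancel, hr0])
  have hflip : ∀ i, r i * x = x * r (-i) := fun i => by
    rw [hneg]
    show (x * y) ^ i.val * x = x * ((x * y) ^ i.val)⁻¹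
    have h1 : x * (x * y) * x⁻¹ = (x * y)⁻¹ := by
      rw [mul_inv_rev, inv_eq_of_mul_eq_one_right hx, inv_eq_of_mul_eq_one_right hy, ← mul_assoc x x,
        hx, one_mul]
    have h2 : x * (x * y) ^ i.val * x⁻¹ = ((x * y) ^ i.val)⁻¹ := by rw [← conj_pow, h1, inv_pow]
    rw [← h2, inv_eq_of_mul_eq_one_right hx, ← mul_assoc, ← mul_assoc, hx, one_mul]
  let f : DihedralGroup 4 →* H :=
    MonoidHom.mk' (fun | .r i => r i | .sr i => x * r i) fun g g' => by
      rcases g with i | i <;> rcases g' with j | j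
      · rw [DihedralGroup.r_mul_r]; exact hr i j
      · rw [DihedralGroup.r_mul_sr]
        show x * r (j - i) = r i * (x * r j)
        rw [← mul_assoc, hflip, mul_assoc, ← hr, neg_add_eq_sub]
      · rw [DihedralGroup.sr_mul_r]
        show x * r (i + j) = x * r i * r j
        rw [mul_assoc, hr]
      · rw [DihedralGroup.sr_mul_sr]
        show r (j - i) = x * r i * (x * r j)
        rw [mul_assoc, ← mul_assoc (r i), hflip, mul_assoc, ← hr, ← mul_assoc, hx, one_mul,
          neg_add_eq_sub]
  refine ⟨f, (injective_iff_map_eq_one f).2 fun g hg => ?_,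
    ⟨.sr 0, show x * r 0 = x by rw [hr0, mul_one]⟩,
    ⟨.sr 1, show x * r 1 = y by
      show x * (x * y) ^ (1 : ZMod 4).val = y
      rw [show (1 : ZMod 4).val = 1 from rfl, pow_one, ← mul_assoc, hx, one_mul]⟩, ?_⟩
  · rcases g with i | i
    · have hi : (x * y) ^ i.val = 1 := hg
      have hne : x * y ≠ 1 := fun h => hxy2 (by rw [h, one_pow])
      fin_cases i
      · rfl
      · exact absurd (show x * y = 1 by rw [← pow_one (x * y)]; exact hi) hne
      · exact absurd hi hxy2
      · exfalso
        refine hne ?_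
        have h4 := hxy
        rw [pow_succ, show (x * y) ^ 3 = 1 from hi, one_mul] at h4
        exact h4
    · exfalso
      have h : x * (x * y) ^ i.val = 1 := hg
      refine hxr i.val ?_
      exact ((eq_inv_of_mul_eq_one_right h).trans (inv_eq_of_mul_eq_one_right hx)).symm
  · rintro _ ⟨g, rfl⟩
    have hxc : x ∈ Subgroup.closure ({x, y} : Set H) := Subgroup.subset_closure (by simp)
    have hxyc : x * y ∈ Subgroup.closure ({x, y} : Set H) :=
      mul_mem hxc (Subgroup.subset_closure (by simp))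
    rcases g with i | i
    · exact pow_mem hxyc _
    · exact mul_mem hxc (pow_mem hxyc _)

theorem exists_quat_gen {H : Type*} [Group H] {g h : H} (hg : g ^ 4 = 1) (hg2 : g ^ 2 ≠ 1)
    (hh : h * h = g * g) (hgh : h * g * h⁻¹ = g⁻¹) (hhg : ∀ i : ℕ, h ≠ g ^ i) :
    ∃ f : QuaternionGroup 2 →* H, Function.Injective f ∧ g ∈ f.range ∧ h ∈ f.range ∧
      f.range ≤ Subgroup.closure {g, h} := by
  let r : ZMod 4 → H := fun i => g ^ i.val
  have hr : ∀ i j, r (i + j) = r i * r j := fun i j => by
    show g ^ (i + j).val = g ^ i.val * g ^ j.val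
    rw [← pow_add, ZMod.val_add, ← pow_eq_pow_mod _ hg]
  have hr0 : r 0 = 1 := by simp [r]
  have hneg : ∀ i, r (-i) = (r i)⁻¹ := fun i => eq_inv_of_mul_eq_one_left (by
    rw [← hr, neg_add_cancel, hr0])
  have hflip : ∀ i, r i * h = h * r (-i) := fun i => by
    rw [hneg]
    show g ^ i.val * h = h * (g ^ i.val)⁻¹
    have h2 : h * g ^ i.val * h⁻¹ = (g ^ i.val)⁻¹ := by rw [← conj_pow, hgh, inv_pow]
    have h3 : h * (g ^ i.val)⁻¹ * h⁻¹ = g ^ i.val := by rw [← conj_inv, h2, inv_inv]
    exact (mul_inv_eq_iff_eq_mul.1 h3).symm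
  have hh2 : h * h = r (2 : ZMod 4) := by rw [hh]; exact (pow_two g).symm
  let f : QuaternionGroup 2 →* H :=
    MonoidHom.mk' (fun | .a i => r i | .xa i => h * r i) fun u v => by
      rcases u with i | i <;> rcases v with j | j
      · rw [QuaternionGroup.a_mul_a]; exact hr i j
      · rw [QuaternionGroup.a_mul_xa]
        show h * r (j - i) = r i * (h * r j)
        rw [← mul_assoc, hflip, mul_assoc, ← hr, neg_add_eq_sub]
      · rw [QuaternionGroup.xa_mul_a]
        show h * r (i + j) = h * r i * r j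
        rw [mul_assoc, hr]
      · rw [QuaternionGroup.xa_mul_xa]
        show r ((2 : ℕ) + j - i) = h * r i * (h * r j)
        rw [mul_assoc, ← mul_assoc (r i), hflip, mul_assoc, ← hr, ← mul_assoc, hh2, ← hr]
        congr 1
        push_cast
        ring
  refine ⟨f, (injective_iff_map_eq_one f).2 fun u hu => ?_, ⟨.a 1, show g ^ (1 : ZMod 4).val = g by
      rw [show (1 : ZMod 4).val = 1 from rfl, pow_one]⟩,
    ⟨.xa 0, show h * r 0 = h by rw [hr0, mul_one]⟩, ?_⟩
  · rcases u with i | i
    · have hi : g ^ i.val = 1 := hu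
      have hne : g ≠ 1 := fun h => hg2 (by rw [h, one_pow])
      fin_cases i
      · rfl
      · exact absurd (show g = 1 by rw [← pow_one g]; exact hi) hne
      · exact absurd hi hg2
      · exfalso
        refine hne ?_
        have h4 := hg
        rw [pow_succ, show g ^ 3 = 1 from hi, one_mul] at h4
        exact h4
    · exfalso
      have he : h * g ^ i.val = 1 := hu
      refine hhg (3 * i.val) ?_
      rw [eq_inv_of_mul_eq_one_left he, inv_eq_iff_mul_eq_one, ← pow_add,
        show i.val + 3 * i.val = 4 * i.val by ring, pow_mul, hg, one_pow]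
  · rintro _ ⟨u, rfl⟩
    have hgc : g ∈ Subgroup.closure ({g, h} : Set H) := Subgroup.subset_closure (by simp)
    rcases u with i | i
    · exact pow_mem hgc _
    · exact mul_mem (Subgroup.subset_closure (by simp)) (pow_mem hgc _)

theorem isMinNormal_map {Y : Type*} [Group Y] {N P : Subgroup Y} [N.Normal] (hP : P.Normal)
    (hlt : N < P) (hmax : ∀ M : Subgroup Y, M.Normal → N ≤ M → M < P → M = N) :
    IsMinNormal (P.map (QuotientGroup.mk' N)) := by
  set π := QuotientGroup.mk' N with hπ
  have hs : Function.Surjective π := QuotientGroup.mk'_surjective N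
  refine ⟨hP.map π hs, fun h => hlt.not_ge ?_, fun M hM hMP => ?_⟩
  · rw [Subgroup.map_eq_bot_iff, QuotientGroup.ker_mk'] at h
    exact h
  · have h1 : N ≤ M.comap π := fun n hn => by
      show π n ∈ M
      rw [show π n = 1 from (QuotientGroup.eq_one_iff n).2 hn]
      exact one_mem M
    have h2 : M.comap π ≤ P := by
      intro x hx
      obtain ⟨y, hy, e⟩ := Subgroup.mem_map.1 (hMP hx)
      have := mul_mem hy (hlt.le (QuotientGroup.eq.1 e))
      simpa using this
    rcases lt_or_eq_of_le h2 with h | h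
    · refine Or.inl ?_
      rw [← Subgroup.map_comap_eq_self_of_surjective hs M, hmax _ (hM.comap π) h1 h,
        Subgroup.map_eq_bot_iff, QuotientGroup.ker_mk']
    · refine Or.inr ?_
      rw [← Subgroup.map_comap_eq_self_of_surjective hs M, h]

theorem exists_max_normal {Y : Type*} [Group Y] [Finite Y] {P : Subgroup Y} (h : P ≠ ⊥) :
    ∃ N : Subgroup Y, N.Normal ∧ N < P ∧ ∀ M : Subgroup Y, M.Normal → N ≤ M → M < P → M = N := by
  obtain ⟨N, ⟨hN, hlt⟩, hmax⟩ := (Set.toFinite {M : Subgroup Y | M.Normal ∧ M < P}).exists_maximal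
    ⟨⊥, inferInstance, bot_lt_iff_ne_bot.2 h⟩
  exact ⟨N, hN, hlt, fun M hM hle hMP => le_antisymm (hmax ⟨hM, hMP⟩ hle) hle⟩

variable {Y : Type*} [Group Y] [Finite Y] {Q P : Subgroup Y} {a t u : Y}

theorem mem_or {M : Subgroup Y} (hMP : M ≤ P) (hcard : Nat.card P = 2 * Nat.card M) {x y : Y}
    (hx : x ∈ P) (hxM : x ∉ M) (hy : y ∈ P) (hyM : y ∉ M) : y * x⁻¹ ∈ M := by
  have h2 : (M.subgroupOf P).index = 2 := by
    have h := (M.subgroupOf P).card_mul_index
    rw [Nat.card_congr (Subgroup.subgroupOfEquivOfLe hMP).toEquiv, hcard, mul_comm 2] at h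
    exact Nat.eq_of_mul_eq_mul_left Nat.card_pos h
  exact (Subgroup.mul_mem_iff_of_index_two h2 (a := (⟨y, hy⟩ : P)) (b := ⟨x⁻¹, inv_mem hx⟩)).2
    (iff_of_false hyM fun h => hxM (by simpa using inv_mem (show x⁻¹ ∈ M from h)))

theorem conj_not_mem (S : Setting Q P a t u) {v : Y} (hv : v ∈ Q) (hvP : v ∉ P) :
    v * (a * v * a⁻¹) ∉ P := by
  intro h
  refine hvP (S.fix v hv ?_)
  have e : ⁅a, v⁆ = v⁻¹ * ((v * (a * v * a⁻¹)) * (v * v)⁻¹) * v := by
    simp only [commutatorElement_def]; group
  rw [e]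
  have := S.pn.conj_mem _ (mul_mem h (inv_mem (S.sq v hv))) v⁻¹
  rwa [inv_inv] at this

theorem exists_not_mem (S : Setting Q P a t u) : ∃ v ∈ Q, v ∉ P := by
  by_contra h
  push Not at h
  have := Subgroup.card_le_of_le h
  rw [S.card] at this
  have : 0 < Nat.card P := Nat.card_pos
  omega

theorem between (S : Setting Q P a t u) {K : Subgroup Y} (hPK : P ≤ K) (hKQ : K ≤ Q)
    (hinv : ∀ k ∈ K, a * k * a⁻¹ ∈ K) : K = P ∨ K = Q := by
  haveI := S.pn
  set π := QuotientGroup.mk' P with hπ
  have hK : Nat.card (K.map π) * Nat.card P = Nat.card K := Setting.card_map_mul hPK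
  have hle : Nat.card (K.map π) ≤ 16 := by
    have h1 := Subgroup.card_le_of_le hKQ
    rw [S.card, ← hK] at h1
    exact Nat.le_of_mul_le_mul_right h1 Nat.card_pos
  rcases dichotomy (a := π a) (by rw [← map_pow, S.a5, map_one]) (K.map π)
      ((S.two.to_le hKQ).map π)
      (by rintro _ ⟨k, hk, rfl⟩; exact ⟨a * k * a⁻¹, hinv k hk, by simp⟩) hle with h | ⟨h, -⟩
  · refine Or.inl (le_antisymm (fun k hk => S.fix k (hKQ hk) ?_) hPK)
    have := h _ ⟨k, hk, rfl⟩
    rw [← map_commutatorElement] at this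
    exact (QuotientGroup.eq_one_iff _).1 this
  · exact Or.inr (Subgroup.eq_of_le_of_card_ge hKQ (by rw [S.card, ← hK, h]))

theorem two_layers (S : Setting Q P a t u) {M : Subgroup Y} (hM : IsMinNormal M) (hMP : M ≤ P)
    (hcard : Nat.card P = 2 * Nat.card M) : False := by
  haveI : Fact (Nat.Prime 2) := ⟨Nat.prime_two⟩
  haveI := S.pn
  haveI := S.qn
  haveI := hM.1
  obtain ⟨hcQ, hsq, hcases⟩ := S.min_facts hM hMP
  obtain ⟨x, hxP, hxM⟩ : ∃ x ∈ P, x ∉ M := by
    by_contra h
    push Not at h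
    have := Subgroup.card_le_of_le h
    have : 0 < Nat.card M := Nat.card_pos
    omega
  -- the elements act trivially on `P / M`
  have hPM : ∀ g : Y, ⁅g, x⁆ ∈ M := by
    intro g
    have h := mem_or hMP hcard hxP hxM (S.pn.conj_mem x hxP g) (fun h => hxM (by
      have := hM.1.conj_mem _ h g⁻¹
      simpa [mul_assoc] using this))
    exact h
  have hmemP : ∀ p ∈ P, p ∈ M ∨ p * x⁻¹ ∈ M := fun p hp =>
    (em (p ∈ M)).imp id fun h => mem_or hMP hcard hxP hxM hp h
  rcases hcases with ⟨hM2, hMcen⟩ | ⟨hM16, hfpf⟩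
  swap
  · obtain ⟨c, hcx, hca⟩ := exists_fixed S.a5 (S.two.to_le (hMP.trans S.le))
      (fun b hb => hM.1.conj_mem b hb a) (hPM a)
    have hcP : c ∈ P := by
      have := mul_mem (hMP hcx) hxP
      simpa using this
    have hcM : c ∉ M := fun h => hxM (by
      have := mul_mem (inv_mem hcx) h
      simpa using this)
    have hc2M : c * c ∈ M := by
      by_contra h
      have h' := mem_or hMP hcard hcP hcM (mul_mem hcP hcP) h
      rw [mul_inv_cancel_right] at h'
      exact hcM h'
    have hc2 : c * c = 1 := by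
      refine hfpf _ hc2M (commutatorElement_eq_one_iff_mul_comm.2 ?_)
      have h := commutatorElement_eq_one_iff_mul_comm.1 hca
      rw [← mul_assoc, h, mul_assoc, h, mul_assoc]
    have := CfsgLib.DEightWreath.card_le_of_sectional S.rank (X := P) (K := ⊥) ⟨bot_le, fun p hp => by
      rw [Subgroup.mem_bot]
      by_cases h : p ∈ M
      · exact hsq p h
      · have h' := mem_or hMP hcard hcP hcM hp h
        have hm := hcQ c (S.le hcP) _ h'
        calc p * p = (p * c⁻¹) * (c * (p * c⁻¹)) * c := by group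
          _ = (p * c⁻¹) * (p * c⁻¹) * (c * c) := by rw [hm]; group
          _ = 1 := by rw [hsq _ h', hc2, one_mul]⟩
    rw [Subgroup.card_bot, hcard, hM16] at this
    omega
  · have hP4 : Nat.card P = 4 := by omega
    have hac : ∀ p ∈ P, ⁅a, p⁆ = 1 := by
      rcases dichotomy S.a5 P (S.two.to_le S.le) (fun p hp => S.pn.conj_mem p hp a) (by omega) with h | h
      · exact h
      · omega
    have hQP : ∀ q ∈ Q, ∀ p ∈ P, q * p = p * q := by
      intro q hq p hp
      have hbr : ∀ g : Y, ⁅g, p⁆ ∈ M := by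
        intro g
        rcases hmemP p hp with h | h
        · rw [commutatorElement_eq_one_iff_mul_comm.2 (Subgroup.mem_center_iff.1 (hMcen h) g)]
          exact one_mem M
        · have e : ⁅g, p⁆ = ⁅g, x⁆ := by
            have hc := Subgroup.mem_center_iff.1 (hMcen h) g
            calc ⁅g, p⁆ = g * (p * x⁻¹) * x * g⁻¹ * p⁻¹ := by simp only [commutatorElement_def]; group
              _ = (p * x⁻¹) * g * x * g⁻¹ * p⁻¹ := by rw [hc]
              _ = (p * x⁻¹) * ⁅g, x⁆ * (p * x⁻¹)⁻¹ := by simp only [commutatorElement_def]; group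
              _ = ⁅g, x⁆ := by
                rw [Subgroup.mem_center_iff.1 (hMcen (hPM g)) (p * x⁻¹), mul_inv_cancel_right]
          rw [e]; exact hPM g
      let K : Subgroup Y := Q ⊓ Subgroup.centralizer {p}
      have hPK : P ≤ K := by
        refine le_inf S.le fun r hr => Subgroup.mem_centralizer_singleton_iff.2 ?_
        haveI : IsMulCommutative P := IsPGroup.isMulCommutative_of_card_eq_prime_sq (p := 2)
          (by rw [hP4]; norm_num)
        exact congrArg Subtype.val (mul_comm' (⟨r, hr⟩ : P) ⟨p, hp⟩)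
      have hinv : ∀ k ∈ K, a * k * a⁻¹ ∈ K := fun k hk => by
        refine ⟨S.qn.conj_mem k hk.1 a, Subgroup.mem_centralizer_singleton_iff.2 ?_⟩
        have h1 := commutatorElement_eq_one_iff_mul_comm.1 (hac p hp)
        have h2 := Subgroup.mem_centralizer_singleton_iff.1 hk.2
        have h3 : a⁻¹ * p = p * a⁻¹ := by
          rw [inv_mul_eq_iff_eq_mul, ← mul_assoc, h1, mul_inv_cancel_right]
        calc a * k * a⁻¹ * p = a * k * (a⁻¹ * p) := by group
          _ = a * (k * p) * a⁻¹ := by rw [h3]; group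
          _ = (a * p) * k * a⁻¹ := by rw [h2]; group
          _ = p * (a * k * a⁻¹) := by rw [h1]; group
      rcases between S hPK inf_le_left hinv with h | h
      · exfalso
        obtain ⟨v, hv, hvP⟩ := exists_not_mem S
        have hv1 := S.qn.conj_mem v hv a
        have hv1P : a * v * a⁻¹ ∉ P := fun h' => hvP (by
          have := S.pn.conj_mem _ h' a⁻¹
          simpa [mul_assoc] using this)
        have hne : ∀ w ∈ Q, w ∉ P → ⁅w, p⁆ ≠ 1 := fun w hw hwP h' => hwP (h.le ⟨hw,
          Subgroup.mem_centralizer_singleton_iff.2 (commutatorElement_eq_one_iff_mul_comm.1 h')⟩)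
        have e : ⁅v * (a * v * a⁻¹), p⁆ = ⁅a * v * a⁻¹, p⁆ * ⁅v, p⁆ := by
          have hc := Subgroup.mem_center_iff.1 (hMcen (hbr (a * v * a⁻¹))) v
          calc ⁅v * (a * v * a⁻¹), p⁆ = v * ⁅a * v * a⁻¹, p⁆ * v⁻¹ * ⁅v, p⁆ := by
                simp only [commutatorElement_def]; group
            _ = _ := by rw [hc, mul_inv_cancel_right]
        have htwo : ⁅a * v * a⁻¹, p⁆ = ⁅v, p⁆ := by
          have h' := mem_or (P := M) (M := ⊥) bot_le (by rw [hM2, Subgroup.card_bot]) (hbr v)
            (by simpa using hne v hv hvP) (hbr (a * v * a⁻¹)) (by simpa using hne _ hv1 hv1P)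
          rw [Subgroup.mem_bot, mul_inv_eq_one] at h'
          exact h'
        refine hne _ (mul_mem hv hv1) (conj_not_mem S hv hvP) ?_
        rw [e, htwo, hsq _ (hbr v)]
      · exact Subgroup.mem_centralizer_singleton_iff.1 (h.ge hq).2
    have hcen : P ≤ Subgroup.center Y :=
      S.le_center hQP fun p hp => commutatorElement_eq_one_iff_mul_comm.1 (hac p hp)
    -- `P` is elementary
    obtain ⟨c, hcP, hcM, hc2⟩ : ∃ c ∈ P, c ∉ M ∧ c * c = 1 := by
      by_cases hall : ∀ y ∈ Q, ∀ z ∈ Q, ⁅y, z⁆ ∈ M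
      · exfalso
        let K : Subgroup Y :=
          { carrier := {y | y ∈ Q ∧ y * y ∈ M}
            one_mem' := ⟨one_mem Q, by rw [one_mul]; exact one_mem M⟩
            mul_mem' := by
              rintro y z ⟨hy, hy2⟩ ⟨hz, hz2⟩
              refine ⟨mul_mem hy hz, ?_⟩
              have e : y * z * (y * z) = y * ⁅z, y⁆ * y⁻¹ * (y * y) * (z * z) := by
                simp only [commutatorElement_def]; group
              rw [e]
              exact mul_mem (mul_mem (hM.1.conj_mem _ (hall z hz y hy) y) hy2) hz2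
            inv_mem' := by
              rintro y ⟨hy, hy2⟩
              exact ⟨inv_mem hy, by rw [← mul_inv_rev]; exact inv_mem hy2⟩ }
        have hPK : P ≤ K := fun p hp => ⟨S.le hp, by
          by_cases h : p ∈ M
          · exact mul_mem h h
          · by_contra h2
            have h' := mem_or hMP hcard hp h (mul_mem hp hp) h2
            rw [mul_inv_cancel_right] at h'
            exact h h'⟩
        have hinv : ∀ k ∈ K, a * k * a⁻¹ ∈ K := fun k hk => ⟨S.qn.conj_mem k hk.1 a, by
          have e : a * k * a⁻¹ * (a * k * a⁻¹) = a * (k * k) * a⁻¹ := by group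
          rw [e]; exact hM.1.conj_mem _ hk.2 a⟩
        obtain ⟨v, hv, hvP⟩ := exists_not_mem S
        have hK : K = Q := by
          refine (between S hPK (fun _ h => h.1) hinv).resolve_left fun h => hvP (S.fix v hv ?_)
          refine h.le ⟨mul_mem (S.qn.conj_mem v hv a) (inv_mem hv), ?_⟩
          have hconj : a * v * a⁻¹ * (a * v * a⁻¹) = v * v := by
            calc a * v * a⁻¹ * (a * v * a⁻¹) = a * (v * v) * a⁻¹ := by group
              _ = v * v := by
                rw [Subgroup.mem_center_iff.1 (hcen (S.sq v hv)) a, mul_inv_cancel_right]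
          have e : ⁅a, v⁆ * ⁅a, v⁆ = (a * v * a⁻¹) * ⁅v⁻¹, a * v * a⁻¹⁆ * (a * v * a⁻¹) * (v⁻¹ * v⁻¹) := by
            simp only [commutatorElement_def]; group
          have hm := hall v⁻¹ (inv_mem hv) _ (S.qn.conj_mem v hv a)
          rw [e, Subgroup.mem_center_iff.1 (hMcen hm) (a * v * a⁻¹),
            mul_assoc ⁅v⁻¹, a * v * a⁻¹⁆, hconj, mul_assoc ⁅v⁻¹, a * v * a⁻¹⁆,
            show v * v * (v⁻¹ * v⁻¹) = 1 by group, mul_one]
          exact hm
        exact hxM (S.gen M (fun y hy => (hK.ge hy).2) hxP)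
      · push Not at hall
        obtain ⟨y, hy, z, hz, hyz⟩ := hall
        have hP' : ⁅y, z⁆ ∈ P := CfsgLib.NoSCN.comm_mem_of_squares (N := P.subgroupOf Q)
          (fun w => S.sq w w.2) ⟨y, hy⟩ ⟨z, hz⟩
        refine ⟨⁅y, z⁆, hP', hyz, ?_⟩
        have h := Subgroup.mem_center_iff.1 (hcen hP') y
        calc ⁅y, z⁆ * ⁅y, z⁆ = (⁅y, z⁆ * y) * y⁻¹ * ⁅y, z⁆ := by group
          _ = (y * ⁅y, z⁆) * y⁻¹ * ⁅y, z⁆ := by rw [h]
          _ = ⁅y * y, z⁆ := by simp only [commutatorElement_def]; group
          _ = 1 := commutatorElement_eq_one_iff_mul_comm.2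
            (Subgroup.mem_center_iff.1 (hcen (S.sq y hy)) z).symm
    have h2 : ∀ p ∈ P, p * p = 1 := by
      intro p hp
      by_cases h : p ∈ M
      · exact hsq p h
      · have h' := mem_or hMP hcard hcP hcM hp h
        have hm := Subgroup.mem_center_iff.1 (hMcen h') c
        calc p * p = (p * c⁻¹) * (c * (p * c⁻¹)) * c := by group
          _ = (p * c⁻¹) * (p * c⁻¹) * (c * c) := by rw [hm]; group
          _ = 1 := by rw [hsq _ h', hc2, one_mul]
    -- the squares determine the orbits
    obtain ⟨v, hv, hvP⟩ := exists_not_mem S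
    obtain ⟨Λ, C⟩ := exists_coords S hv hvP
    have hrel := C.relation S hcen h2 hv
    have hsq' := fun {x : Y} {d : C4} h => C.sq S hcen h2 hv (x := x) (c := d) h
    have hzP : ∀ j, sqVal a v j ∈ P := by
      intro j
      fin_cases j
      · exact one_mem P
      · exact S.sq v hv
      · exact S.sq _ (mul_mem hv (S.qn.conj_mem v hv a))
      · exact S.sq _ (mul_mem hv (S.qn.conj_mem _ (S.qn.conj_mem v hv a) a))
    have hinjZ : Function.Injective (sqVal a v) := by
      -- otherwise the squares generate a subgroup of order at most two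
      by_contra hni
      obtain ⟨w, hw⟩ : ∃ w ∈ P, ∀ j, sqVal a v j ∈ Subgroup.zpowers w := by
        rw [Function.not_injective_iff] at hni
        obtain ⟨i, j, hij, hne⟩ := hni
        have hj0 : sqVal a v 0 = 1 := rfl
        have r13 : sqVal a v 1 * sqVal a v 3 = sqVal a v 2 := hrel
        have r2 : ∀ j, sqVal a v j * sqVal a v j = 1 := fun j => h2 _ (hzP j)
        have hw : ∀ w : Fin 4, sqVal a v w ∈ Subgroup.zpowers (sqVal a v w) := fun w =>
          Subgroup.mem_zpowers _
        obtain ⟨w, h1, h3⟩ : ∃ w, sqVal a v 1 ∈ Subgroup.zpowers (sqVal a v w) ∧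
            sqVal a v 3 ∈ Subgroup.zpowers (sqVal a v w) := by
          fin_cases i <;> fin_cases j <;> simp only [ne_eq, not_true_eq_false] at hne <;>
            simp only [Fin.isValue, Fin.zero_eta, Fin.mk_one, Fin.reduceFinMk, hj0] at hij <;>
            first
              | exact ⟨3, by rw [hij]; exact one_mem _, hw 3⟩
              | exact ⟨3, by rw [← hij]; exact one_mem _, hw 3⟩
              | exact ⟨1, hw 1, by rw [hij]; exact one_mem _⟩
              | exact ⟨1, hw 1, by rw [← hij]; exact one_mem _⟩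
              | exact ⟨1, hw 1, by rw [hij]; exact hw 3⟩
              | exact ⟨1, hw 1, by rw [← hij]; exact hw 1⟩
              | exact ⟨1, hw 1, by rw [hij]; exact hw 1⟩
              | exact ⟨1, hw 1, by
                  rw [eq_inv_of_mul_eq_one_right (show sqVal a v 1 * sqVal a v 3 = 1 by
                    rw [r13]; first | exact hij | exact hij.symm)]
                  exact inv_mem (hw 1)⟩
              | exact ⟨1, hw 1, by
                  rw [show sqVal a v 3 = 1 from mul_eq_left.1 (r13.trans hij.symm)]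
                  exact one_mem _⟩
              | exact ⟨1, hw 1, by
                  rw [show sqVal a v 3 = 1 from mul_eq_left.1 (r13.trans hij)]
                  exact one_mem _⟩
              | exact ⟨3, by
                  rw [show sqVal a v 1 = 1 from mul_eq_right.1 (r13.trans hij.symm)]
                  exact one_mem _, hw 3⟩
              | exact ⟨3, by
                  rw [show sqVal a v 1 = 1 from mul_eq_right.1 (r13.trans hij)]
                  exact one_mem _, hw 3⟩
        refine ⟨_, hzP w, fun j => ?_⟩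
        fin_cases j
        · exact one_mem _
        · exact h1
        · show sqVal a v 2 ∈ _
          rw [← r13]
          exact mul_mem h1 h3
        · exact h3
      have hle : P ≤ Subgroup.zpowers w := S.gen _ fun y hy => by
        obtain ⟨d, hd⟩ := (C.image _).1 ⟨y, hy, rfl⟩
        rw [hsq' hd.symm]
        exact hw.2 _
      have := Subgroup.card_le_of_le hle
      rw [Nat.card_zpowers, hP4] at this
      have h' := orderOf_le_of_pow_eq_one (x := w) (by norm_num : 0 < 2) (by rw [pow_two]; exact h2 w hw.1)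
      omega
    -- hence an element of order three acts trivially
    set π := QuotientGroup.mk' P with hπ
    have hL : ∀ d, ∃ d', Λ d' = π u * Λ d * (π u)⁻¹ := by
      intro d
      refine (C.image _).1 ?_
      obtain ⟨y, hy, e⟩ := (C.image _).2 ⟨d, rfl⟩
      exact ⟨u * y * u⁻¹, S.qn.conj_mem y hy u, by rw [← e]; simp [π]⟩
    choose L hL using hL
    have hid := eq_id L
      (fun d d' => C.inj (by rw [C.add, hL, hL, hL, C.add]; group))
      (fun d => hinjZ (by
        obtain ⟨y, hy, e⟩ := (C.image _).2 ⟨d, rfl⟩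
        rw [← hsq' e, ← hsq' (x := u * y * u⁻¹) (by rw [hL, ← e]; simp [π]),
          sq_conj S hcen h2 hy u]))
      (fun d => C.inj (by
        rw [hL, hL, hL]
        calc π u * (π u * (π u * Λ d * (π u)⁻¹) * (π u)⁻¹) * (π u)⁻¹
            = (π u) ^ 3 * Λ d * ((π u) ^ 3)⁻¹ := by simp [pow_succ, mul_assoc]
          _ = Λ d := by rw [← map_pow, S.u3, map_one, one_mul, inv_one, mul_one]))
    have hnorm : (Q.map π).Normal := S.qn.map π (QuotientGroup.mk'_surjective P)
    have hN := S.cover ((Subgroup.centralizer (Q.map π : Set (Y ⧸ P))).comap π) inferInstance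
      (fun q hq => by
        show π q ∈ Subgroup.centralizer (Q.map π : Set (Y ⧸ P))
        refine Subgroup.mem_centralizer_iff.2 ?_
        rintro _ ⟨r, hr, rfl⟩
        rw [← commutatorElement_eq_one_iff_mul_comm, ← map_commutatorElement]
        exact (QuotientGroup.eq_one_iff _).2 (CfsgLib.NoSCN.comm_mem_of_squares (N := P.subgroupOf Q)
          (fun w => S.sq w w.2) ⟨r, hr⟩ ⟨q, hq⟩))
      (Or.inr (by
        show π u ∈ Subgroup.centralizer (Q.map π : Set (Y ⧸ P))
        refine Subgroup.mem_centralizer_iff.2 fun y hy => ?_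
        obtain ⟨d, rfl⟩ := (C.image y).1 hy
        have h := hL d
        rw [hid] at h
        conv_lhs => rw [h]
        rw [inv_mul_cancel_right]))
    refine hvP (S.fix v hv ((QuotientGroup.eq_one_iff _).1 ?_))
    show π ⁅a, v⁆ = 1
    rw [map_commutatorElement, commutatorElement_eq_one_iff_mul_comm]
    exact (Subgroup.mem_centralizer_iff.1 (hN.ge (Subgroup.mem_top a)) _ ⟨v, hv, rfl⟩).symm

theorem shape_extraspecial (S : Setting Q P a t u) (hP : Nat.card P = 2) : Shape ↥Q := by
  haveI := S.pn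
  haveI := S.qn
  obtain ⟨⟨z, hzP⟩, hz1⟩ := Subgroup.ne_bot_iff_exists_ne_one.1
    (show P ≠ ⊥ from fun h => by rw [h, Subgroup.card_bot] at hP; omega)
  have hz : z ≠ 1 := fun h => hz1 (Subtype.ext h)
  have hPz : ∀ p ∈ P, p = 1 ∨ p = z := fun p hp => by
    by_cases h : p = 1
    · exact Or.inl h
    · refine Or.inr ?_
      have := mem_or (M := ⊥) (P := P) bot_le (by rw [hP, Subgroup.card_bot]) hzP (by simpa using hz)
        hp (by simpa using h)
      rwa [Subgroup.mem_bot, mul_inv_eq_one] at this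
  have hzz : z * z = 1 := (hPz _ (mul_mem hzP hzP)).resolve_right fun h => hz (mul_eq_left.1 h)
  have h2 : ∀ p ∈ P, p * p = 1 := fun p hp => by
    rcases hPz p hp with rfl | rfl
    · exact one_mul 1
    · exact hzz
  have hcen : P ≤ Subgroup.center Y := fun p hp => Subgroup.mem_center_iff.2 fun g => by
    rcases hPz p hp with rfl | rfl
    · rw [one_mul, mul_one]
    · have h := (hPz _ (S.pn.conj_mem p hp g)).resolve_left fun h => hz (conj_eq_one_iff.1 h)
      exact mul_inv_eq_iff_eq_mul.1 h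
  -- an involution outside `P`
  obtain ⟨v, hv, hvP, hv2⟩ : ∃ v ∈ Q, v ∉ P ∧ v * v = 1 := by
    obtain ⟨v, hv, hvP⟩ := exists_not_mem S
    obtain ⟨Λ, C⟩ := exists_coords S hv hvP
    have hrel := C.relation S hcen h2 hv
    have hv1 := S.qn.conj_mem v hv a
    by_cases h1 : v * v = 1
    · exact ⟨v, hv, hvP, h1⟩
    by_cases h3 : sqVal a v 3 = 1
    · refine ⟨v * (a * (a * v * a⁻¹) * a⁻¹), mul_mem hv (S.qn.conj_mem _ hv1 a), fun hm => ?_, h3⟩
      have e : Λ (b0 + b2) = Λ 0 := by
        have e2 : QuotientGroup.mk' P (a * (a * v * a⁻¹) * a⁻¹) = Λ b2 := by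
          rw [show b2 = sh (sh b0) by decide, C.shift, C.shift, C.base]; simp
        rw [C.add, C.base, ← e2, ← map_mul,
          show QuotientGroup.mk' P (v * (a * (a * v * a⁻¹) * a⁻¹)) = 1 from
            (QuotientGroup.eq_one_iff _).2 hm]
        have := C.add 0 0
        rw [add_zero] at this
        exact (left_eq_mul.1 this).symm
      exact absurd (C.inj e) (by decide)
    · have e1 : sqVal a v 1 = z := (hPz _ (S.sq v hv)).resolve_left h1
      have e3 : sqVal a v 3 = z :=
        (hPz _ (S.sq _ (mul_mem hv (S.qn.conj_mem _ hv1 a)))).resolve_left h3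
      rw [e1, e3, hzz] at hrel
      exact ⟨v * (a * v * a⁻¹), mul_mem hv hv1, conj_not_mem S hv hvP, hrel.symm⟩
  obtain ⟨Λ, C⟩ := exists_coords S hv hvP
  have hrel := C.relation S hcen h2 hv
  have hs0 : sqVal a v 0 = 1 := rfl
  have hs1 : sqVal a v 1 = 1 := hv2
  rw [hs1, one_mul] at hrel
  have hs3 : sqVal a v 3 = z := by
    refine (hPz _ (S.sq _ (mul_mem hv (S.qn.conj_mem _ (S.qn.conj_mem v hv a) a)))).resolve_left
      fun h => hz ?_
    have hle : P ≤ ⊥ := S.gen _ fun y hy => by
      obtain ⟨d, hd⟩ := (C.image _).1 ⟨y, hy, rfl⟩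
      rw [C.sq S hcen h2 hv hd.symm, Subgroup.mem_bot]
      generalize cls d = j
      fin_cases j
      · exact hs0
      · exact hs1
      · exact hrel.symm.trans h
      · exact h
    exact Subgroup.mem_bot.1 (hle hzP)
  have hs2 : sqVal a v 2 = z := hrel.symm.trans hs3
  -- generators
  set π := QuotientGroup.mk' P with hπ
  have lift : ∀ d, ∃ x : Q, π x = Λ d := fun d => by
    obtain ⟨x, hx, e⟩ := (C.image _).2 ⟨d, rfl⟩
    exact ⟨⟨x, hx⟩, e⟩
  choose l hl using lift
  let zQ : Q := ⟨z, S.le hzP⟩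
  have hzQ1 : zQ ≠ 1 := fun h => hz (congrArg Subtype.val h)
  let val : Fin 4 → Q := ![1, 1, zQ, zQ]
  have hval : ∀ j, (val j : Y) = sqVal a v j := by
    intro j
    fin_cases j
    · exact hs0.symm
    · exact hs1.symm
    · exact hs2.symm
    · exact hs3.symm
  have hsq : ∀ {x : Q} {d : C4}, π x = Λ d → x * x = val (cls d) := fun {x d} h =>
    Subtype.ext ((C.sq S hcen h2 hv h).trans (hval _).symm)
  have hcomm : ∀ {x y : Q} {d d' : C4}, π x = Λ d → π y = Λ d' →
      ⁅x, y⁆ = val (cls d) * val (cls d') * val (cls (d + d')) := fun {x y d d'} h h' =>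
    Subtype.ext (by
      rw [Subgroup.coe_mul, Subgroup.coe_mul, hval, hval, hval, ← C.comm S hcen h2 hv x.2 y.2 h h']
      rfl)
  have hzz' : zQ * zQ = 1 := Subtype.ext hzz
  let x : Q := l b0
  let y : Q := l b1
  let g : Q := l (b0 + b1 + b2)
  let h : Q := l (b0 + b1 + b3)
  have hx2 : x * x = 1 := hsq (hl b0)
  have hy2 : y * y = 1 := hsq (hl b1)
  have hg2 : g * g = zQ := hsq (hl _)
  have hh2 : h * h = zQ := hsq (hl _)
  have hxy : ⁅x, y⁆ = zQ := by rw [hcomm (hl b0) (hl b1)]; show (1 : Q) * 1 * zQ = zQ; rw [one_mul, one_mul]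
  have hgh : ⁅g, h⁆ = zQ := by
    rw [hcomm (hl _) (hl _)]
    show zQ * zQ * val (cls (b0 + b1 + b2 + (b0 + b1 + b3))) = zQ
    rw [hzz', one_mul]
    rfl
  have hzero : ∀ {d d' : C4} (p q : Q), π p = Λ d → π q = Λ d' → (cls d = 1 ∧ 2 ≤ (cls d').val ∧
      2 ≤ (cls (d + d')).val) → p * q = q * p := by
    intro d d' p q hp hq ⟨e1, e2, e3⟩
    rw [← commutatorElement_eq_one_iff_mul_comm, hcomm hp hq, e1]
    have hv' : ∀ j : Fin 4, 2 ≤ j.val → val j = zQ := by
      intro j hj
      fin_cases j <;> first | rfl | simp at hj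
    rw [hv' _ e2, hv' _ e3, show val 1 = 1 from rfl, one_mul, hzz']
  have cxg : x * g = g * x := hzero _ _ (hl _) (hl _) (by decide)
  have cxh : x * h = h * x := hzero _ _ (hl _) (hl _) (by decide)
  have cyg : y * g = g * y := hzero _ _ (hl _) (hl _) (by decide)
  have cyh : y * h = h * y := hzero _ _ (hl _) (hl _) (by decide)
  have hg4 : g ^ 4 = 1 := by
    rw [show 4 = 2 * 2 from rfl, pow_mul, pow_two g, hg2, pow_two, hzz']
  have hhg : h * g * h⁻¹ = g⁻¹ := by
    have e : h * g * h⁻¹ = ⁅g, h⁆⁻¹ * g := by simp only [commutatorElement_def]; group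
    rw [e, hgh, eq_inv_iff_mul_eq_one, mul_assoc, hg2, inv_mul_cancel]
  obtain ⟨fA, hfA, hgA, hhA, hAle⟩ := exists_quat_gen hg4 (by rw [pow_two, hg2]; exact hzQ1)
    (hh2.trans hg2.symm) hhg (fun i hi => hzQ1 (by
      rw [← hgh, hi, commutatorElement_eq_one_iff_mul_comm]
      exact ((Commute.refl g).pow_right i).eq))
  have hxy2 : (x * y) ^ 2 = zQ := by
    rw [← hxy, pow_two, commutatorElement_def, inv_eq_of_mul_eq_one_right hx2,
      inv_eq_of_mul_eq_one_right hy2]
    group
  obtain ⟨fB, hfB, hxB, hyB, hBle⟩ := exists_dih_hom hx2 hy2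
    (by rw [show 4 = 2 * 2 from rfl, pow_mul, hxy2, pow_two, hzz'])
    (by rw [hxy2]; exact hzQ1) (fun i hi => hzQ1 (by
      rw [← hxy, commutatorElement_eq_one_iff_mul_comm]
      have hc : Commute x (x * y) := by
        nth_rewrite 1 [hi]
        exact (Commute.refl _).pow_left i
      exact mul_left_cancel (hc.eq.trans (mul_assoc _ _ _))))
  have hcAB : ∀ p ∈ fA.range, ∀ q ∈ fB.range, p * q = q * p := by
    have h1 : Subgroup.closure ({x, y} : Set Q) ≤ Subgroup.centralizer ({g, h} : Set Q) := by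
      rw [Subgroup.closure_le]
      intro w hw
      rw [SetLike.mem_coe, Subgroup.mem_centralizer_iff]
      intro s hs
      simp only [Set.mem_insert_iff, Set.mem_singleton_iff] at hw hs
      rcases hw with rfl | rfl <;> rcases hs with rfl | rfl
      · exact cxg.symm
      · exact cxh.symm
      · exact cyg.symm
      · exact cyh.symm
    intro p hp q hq
    have h2' : Subgroup.closure ({g, h} : Set Q) ≤ Subgroup.centralizer {q} := by
      rw [Subgroup.closure_le]
      intro s hs
      rw [SetLike.mem_coe, Subgroup.mem_centralizer_singleton_iff]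
      exact Subgroup.mem_centralizer_iff.1 (h1 (hBle hq)) s hs
    exact Subgroup.mem_centralizer_singleton_iff.1 (h2' (hAle hp))
  have hzA : zQ ∈ fA.range := hg2 ▸ mul_mem hgA hgA
  have hzB : zQ ∈ fB.range := hxy2 ▸ pow_mem (mul_mem hxB hyB) 2
  have hPQ : ∀ w : Q, (w : Y) ∈ P → w = 1 ∨ w = zQ := fun w hw =>
    (hPz _ hw).imp (fun h => Subtype.ext h) fun h => Subtype.ext h
  set K := fA.range ⊔ fB.range with hKdef
  have htop : K = ⊤ := by
    let Good : C4 → Prop := fun d => ∃ k ∈ K, π (k : Q) = Λ d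
    have gadd : ∀ d d', Good d → Good d' → Good (d + d') := by
      rintro d d' ⟨k, hk, e⟩ ⟨k', hk', e'⟩
      exact ⟨k * k', mul_mem hk hk', by rw [C.add, ← e, ← e', ← map_mul]; rfl⟩
    have g0 : Good b0 := ⟨x, Subgroup.mem_sup_right hxB, hl _⟩
    have g1 : Good b1 := ⟨y, Subgroup.mem_sup_right hyB, hl _⟩
    have g2 : Good b2 := by
      have h' := gadd _ _ (gadd _ _ ⟨g, Subgroup.mem_sup_left hgA, hl _⟩ g0) g1
      rwa [show b0 + b1 + b2 + b0 + b1 = b2 by decide] at h'
    have g3 : Good b3 := by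
      have h' := gadd _ _ (gadd _ _ ⟨h, Subgroup.mem_sup_left hhA, hl _⟩ g0) g1
      rwa [show b0 + b1 + b3 + b0 + b1 = b3 by decide] at h'
    have gz : Good 0 := by
      have h' := gadd _ _ g0 g0
      rwa [show b0 + b0 = 0 by decide] at h'
    rw [eq_top_iff]
    intro w _
    obtain ⟨d, hd⟩ := (C.image _).1 ⟨(w : Y), w.2, rfl⟩
    obtain ⟨k, hk, e⟩ : Good d := by
      rw [decomp d]
      refine gadd _ _ (gadd _ _ (gadd _ _ ?_ ?_) ?_) ?_ <;> split_ifs <;> assumption
    have hkw : ((k⁻¹ * w : Q) : Y) ∈ P := by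
      rw [Subgroup.coe_mul, Subgroup.coe_inv]
      exact QuotientGroup.eq.1 (e.trans hd)
    have hmem : k⁻¹ * w ∈ K := by
      rcases hPQ _ hkw with h' | h' <;> rw [h']
      · exact one_mem K
      · exact Subgroup.mem_sup_left hzA
    have := mul_mem hk hmem
    rwa [mul_inv_cancel_left] at this
  refine Or.inr ⟨by rw [S.card, hP], fA.range, fB.range, ⟨(MonoidHom.ofInjective hfA).symm⟩,
    ⟨(MonoidHom.ofInjective hfB).symm⟩, hcAB, htop, le_antisymm ?_ ?_⟩
  · intro w hw
    rw [Subgroup.mem_center_iff]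
    have : K ≤ Subgroup.centralizer {w} := sup_le
      (fun p hp => Subgroup.mem_centralizer_singleton_iff.2 (hcAB p hp w hw.2))
      (fun q hq => Subgroup.mem_centralizer_singleton_iff.2 (hcAB w hw.1 q hq).symm)
    intro s
    exact Subgroup.mem_centralizer_singleton_iff.1 (this (htop ▸ Subgroup.mem_top s))
  · intro w hw
    obtain ⟨d, hd⟩ := (C.image _).1 ⟨(w : Y), w.2, rfl⟩
    have hd0 : d = 0 := by
      by_contra hne
      have hdec : ∀ d : C4, d ≠ 0 → ∃ e ∈ [b0, b1, b2, b3],
          (decide (2 ≤ (cls d).val) ^^ decide (2 ≤ (cls e).val) ^^ decide (2 ≤ (cls (d + e)).val)) = true := by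
        decide
      obtain ⟨e, -, he⟩ := hdec d hne
      have h1 := hcomm (x := w) (y := l e) hd.symm (hl e)
      rw [commutatorElement_eq_one_iff_mul_comm.2 (Subgroup.mem_center_iff.1 hw (l e)).symm] at h1
      have hval' : ∀ i j k : Fin 4, (decide (2 ≤ i.val) ^^ decide (2 ≤ j.val) ^^ decide (2 ≤ k.val)) = true →
          val i * val j * val k = zQ := by
        intro i j k
        fin_cases i <;> fin_cases j <;> fin_cases k <;> simp [val, hzz']
      exact hzQ1 ((hval' _ _ _ he).symm.trans h1.symm)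
    have hwP : (w : Y) ∈ P := by
      refine (QuotientGroup.eq_one_iff _).1 (hd.symm.trans ?_)
      have := C.add 0 0
      rw [add_zero] at this
      rw [hd0]
      exact left_eq_mul.1 this
    rcases hPQ w hwP with rfl | rfl
    · exact one_mem _
    · exact ⟨hzA, hzB⟩

theorem shape_of_setting (S : Setting Q P a t u) : Shape ↥Q := by
  by_cases hP : P = ⊥
  · refine Or.inl ?_
    have h2 : ∀ x : Q, x * x = 1 := fun x => Subtype.ext (by
      have := S.sq x x.2
      rwa [hP, Subgroup.mem_bot] at this)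
    refine ⟨fun x y => ?_, h2, by rw [S.card, hP, Subgroup.card_bot]⟩
    calc x * y = (x * y)⁻¹ := (inv_eq_of_mul_eq_one_right (h2 _)).symm
      _ = y * x := by
        rw [mul_inv_rev, inv_eq_of_mul_eq_one_right (h2 x), inv_eq_of_mul_eq_one_right (h2 y)]
  obtain ⟨M, hMn, hMP, hmax⟩ := exists_max_normal hP
  haveI := hMn
  have S' := S.quot M hMP.le
  have hmin := isMinNormal_map S.pn hMP hmax
  obtain ⟨hcQ, hsq, h⟩ := S'.min_facts hmin le_rfl
  have hidx : Nat.card P = 2 * Nat.card M := by
    rcases h with ⟨h, -⟩ | ⟨h, hf⟩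
    · rw [← Setting.card_map_mul hMP.le, h]
    · exact (S'.no_free hcQ hsq h hf).elim
  by_cases hM : M = ⊥
  · exact shape_extraspecial S (by rw [hidx, hM, Subgroup.card_bot])
  exfalso
  obtain ⟨N, hNn, hNM, hmax'⟩ := exists_max_normal hM
  haveI := hNn
  refine two_layers (S.quot N (hNM.le.trans hMP.le)) (isMinNormal_map hMn hNM hmax')
    (Subgroup.map_mono hMP.le) ?_
  have h1 := Setting.card_map_mul (hNM.le.trans hMP.le)
  have h2 := Setting.card_map_mul hNM.le
  rw [hidx, ← h2, ← mul_assoc] at h1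
  exact Nat.eq_of_mul_eq_mul_right Nat.card_pos h1

end CfsgLib.RankFourRadical
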