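import Cfsg.Agent.Lib.RankFourRadical.Setting
import Cfsg.Agent.Lib.RankFourRadical.Code

/-!
Squares of the radical, when the Frattini subgroup is central and elementary.
-/

set_option autoImplicit false
set_option linter.unusedSectionVars false
set_option linter.style.haveILetI false

namespace CfsgLib.RankFourRadical

open scoped commutatorElement
open Code

variable {Y : Type*} [Group Y] [Finite Y] {Q P : Subgroup Y} {a t u : Y}

/-- The coordinates of the radical modulo `P` given by the conjugates of `v`. -/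
structure Coords (Q P : Subgroup Y) [P.Normal] (a v : Y) (Λ : C4 → Y ⧸ P) : Prop where
  add : ∀ c d, Λ (c + d) = Λ c * Λ d
  inj : Function.Injective Λ
  image : ∀ x : Y ⧸ P, x ∈ Q.map (QuotientGroup.mk' P) ↔ ∃ c, Λ c = x
  base : Λ b0 = QuotientGroup.mk' P v
  shift : ∀ c, Λ (sh c) = QuotientGroup.mk' P a * Λ c * (QuotientGroup.mk' P a)⁻¹

theorem exists_coords (S : Setting Q P a t u) [P.Normal] {v : Y} (hv : v ∈ Q) (hvP : v ∉ P) :
    ∃ Λ : C4 → Y ⧸ P, Coords Q P a v Λ := by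
  set π := QuotientGroup.mk' P with hπ
  have S' := S.quot P le_rfl
  have hPb : P.map π = ⊥ := by rw [Subgroup.map_eq_bot_iff, QuotientGroup.ker_mk']
  have hcard : Nat.card (Q.map π) = 16 := by rw [S'.card, hPb, Subgroup.card_bot, mul_one]
  have h2 : ∀ x ∈ Q.map π, x * x = 1 := fun x hx => by
    have := S'.sq x hx
    rwa [hPb, Subgroup.mem_bot] at this
  have hfix : ∀ x ∈ Q.map π, ⁅π a, x⁆ = 1 → x = 1 := fun x hx h => by
    have := S'.fix x hx (by rw [h]; exact one_mem _)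
    rwa [hPb, Subgroup.mem_bot] at this
  have hcomm : ∀ x ∈ Q.map π, ∀ y ∈ Q.map π, x * y = y * x := by
    intro x hx y hy
    calc x * y = (x * y)⁻¹ := (inv_eq_of_mul_eq_one_right (h2 _ (mul_mem hx hy))).symm
      _ = y * x := by
        rw [mul_inv_rev, inv_eq_of_mul_eq_one_right (h2 x hx), inv_eq_of_mul_eq_one_right (h2 y hy)]
  set A := π a with hA
  have hA5 : A ^ 5 = 1 := S'.a5
  have hconj : ∀ x ∈ Q.map π, A * x * A⁻¹ ∈ Q.map π := fun x hx => S'.qn.conj_mem x hx A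
  set e0 := π v with he0
  set e1 := A * e0 * A⁻¹ with he1
  set e2 := A * e1 * A⁻¹ with he2
  set e3 := A * e2 * A⁻¹ with he3
  set e4 := A * e3 * A⁻¹ with he4
  have m0 : e0 ∈ Q.map π := ⟨v, hv, rfl⟩
  have m1 := hconj _ m0
  have m2 := hconj _ m1
  have m3 := hconj _ m2
  have m4 := hconj _ m3
  have he5 : A * e4 * A⁻¹ = e0 := by
    calc A * e4 * A⁻¹ = A ^ 5 * e0 * (A ^ 5)⁻¹ := by
          simp [he4, he3, he2, he1, pow_succ, mul_assoc]
      _ = e0 := by rw [hA5, one_mul, inv_one, mul_one]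
  have hprod : e0 * e1 * e2 * e3 * e4 = 1 := by
    refine hfix _ (mul_mem (mul_mem (mul_mem (mul_mem m0 m1) m2) m3) m4) ?_
    rw [commutatorElement_eq_one_iff_mul_comm, ← mul_inv_eq_iff_eq_mul]
    calc A * (e0 * e1 * e2 * e3 * e4) * A⁻¹
        = (A * e0 * A⁻¹) * (A * e1 * A⁻¹) * (A * e2 * A⁻¹) * (A * e3 * A⁻¹) * (A * e4 * A⁻¹) := by group
      _ = (e1 * e2 * e3 * e4) * e0 := by rw [he5]
      _ = e0 * (e1 * e2 * e3 * e4) := hcomm _ (mul_mem (mul_mem (mul_mem m1 m2) m3) m4) _ m0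
      _ = _ := by group
  let pw : ZMod 2 → Y ⧸ P → Y ⧸ P := fun r x => x ^ r.val
  have pmem : ∀ r x, x ∈ Q.map π → pw r x ∈ Q.map π := fun r x hx => pow_mem hx _
  have padd : ∀ r s x, x ∈ Q.map π → pw (r + s) x = pw r x * pw s x := by
    intro r s x hx
    show x ^ (r + s).val = x ^ r.val * x ^ s.val
    rw [← pow_add, ZMod.val_add, ← pow_eq_pow_mod (r.val + s.val) (by rw [pow_two]; exact h2 x hx)]
  let Λ : C4 → Y ⧸ P := fun c => pw c.1 e0 * pw c.2.1 e1 * pw c.2.2.1 e2 * pw c.2.2.2 e3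
  have hadd : ∀ c d, Λ (c + d) = Λ c * Λ d := by
    intro c d
    have inter : ∀ x ∈ Q.map π, ∀ y ∈ Q.map π, ∀ z ∈ Q.map π, ∀ w ∈ Q.map π,
        x * y * (z * w) = x * z * (y * w) := by
      intro x _ y hy z hz w _
      calc x * y * (z * w) = x * (y * z) * w := by group
        _ = x * (z * y) * w := by rw [hcomm y hy z hz]
        _ = _ := by group
    show pw (c.1 + d.1) e0 * pw (c.2.1 + d.2.1) e1 * pw (c.2.2.1 + d.2.2.1) e2 *
        pw (c.2.2.2 + d.2.2.2) e3 = _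
    rw [padd _ _ _ m0, padd _ _ _ m1, padd _ _ _ m2, padd _ _ _ m3]
    rw [inter _ (pmem _ _ m0) _ (pmem _ _ m0) _ (pmem _ _ m1) _ (pmem _ _ m1)]
    rw [inter _ (mul_mem (pmem _ _ m0) (pmem _ _ m1)) _ (mul_mem (pmem _ _ m0) (pmem _ _ m1))
      _ (pmem _ _ m2) _ (pmem _ _ m2)]
    rw [inter _ (mul_mem (mul_mem (pmem _ _ m0) (pmem _ _ m1)) (pmem _ _ m2)) _
      (mul_mem (mul_mem (pmem _ _ m0) (pmem _ _ m1)) (pmem _ _ m2)) _ (pmem _ _ m3) _ (pmem _ _ m3)]
  have hmem : ∀ c, Λ c ∈ Q.map π := fun c =>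
    mul_mem (mul_mem (mul_mem (pmem _ _ m0) (pmem _ _ m1)) (pmem _ _ m2)) (pmem _ _ m3)
  have hb0 : Λ b0 = e0 := by simp [Λ, pw, b0, ZMod.val_one]
  have hb1 : Λ b1 = e1 := by simp [Λ, pw, b1, ZMod.val_one]
  have hb2 : Λ b2 = e2 := by simp [Λ, pw, b2, ZMod.val_one]
  have hb3 : Λ b3 = e3 := by simp [Λ, pw, b3, ZMod.val_one]
  have h4 : Λ (1, 1, 1, 1) = e4 := by
    have h : e0 * e1 * e2 * e3 = e4 := by
      rw [eq_inv_of_mul_eq_one_left hprod, inv_eq_of_mul_eq_one_right (h2 _ m4)]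
    simpa [Λ, pw, ZMod.val_one] using h
  have hsh : ∀ c, Λ (sh c) = A * Λ c * A⁻¹ := by
    have h0 : Λ 0 = 1 := by simp [Λ, pw]
    have hdec : ∀ c : C4, sh c = lin b1 b2 b3 (1, 1, 1, 1) c := by decide
    have hite : ∀ (q : Prop) [Decidable q] (x : C4) (y : C4),
        Λ x = A * Λ y * A⁻¹ → Λ (if q then x else 0) = A * Λ (if q then y else 0) * A⁻¹ := by
      intro q _ x y h
      split_ifs
      · exact h
      · rw [h0, mul_one, mul_inv_cancel]
    intro c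
    conv_rhs => rw [decomp c]
    rw [hdec]
    simp only [lin, hadd]
    rw [hite _ b1 b0 (by rw [hb1, hb0]), hite _ b2 b1 (by rw [hb2, hb1]),
      hite _ b3 b2 (by rw [hb3, hb2]), hite _ (1, 1, 1, 1) b3 (by rw [h4, hb3])]
    group
  have hinj : Function.Injective Λ := by
    intro c d hcd
    by_contra hne
    have h0 : Λ 0 = 1 := by simp [Λ, pw]
    have hk : Λ (c + d) = 1 := by rw [hadd, hcd, h2 _ (hmem d)]
    have hcd0 : c + d ≠ 0 := fun h => hne (by
      have h' : ∀ x y : C4, x + y = 0 → x = y := by decide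
      exact h' c d h)
    have hb := zero_of_shift (P := fun x => Λ x = 1) h0
      (fun x y hx hy => by rw [hadd, hx, hy, one_mul])
      (fun x hx => by rw [hsh, hx, mul_one, mul_inv_cancel]) hcd0 hk
    rw [hb0] at hb
    exact hvP ((QuotientGroup.eq_one_iff v).1 hb)
  refine ⟨Λ, hadd, hinj, fun x => ⟨fun hx => ?_, ?_⟩, hb0, hsh⟩
  · let f : C4 → Q.map π := fun c => ⟨Λ c, hmem c⟩
    have hf : Function.Injective f := fun c d h => hinj (congrArg Subtype.val h)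
    haveI := Fintype.ofFinite (Q.map π)
    obtain ⟨c, hc⟩ := ((Fintype.bijective_iff_injective_and_card f).2
      ⟨hf, by rw [← Nat.card_eq_fintype_card (α := Q.map π), hcard]; rfl⟩).2 ⟨x, hx⟩
    exact ⟨c, congrArg Subtype.val hc⟩
  · rintro ⟨c, rfl⟩
    exact hmem c

/-- The squares of the representatives of the orbits. -/
def sqVal (a v : Y) : Fin 4 → Y :=
  ![1, v * v, (v * (a * v * a⁻¹)) * (v * (a * v * a⁻¹)),
    (v * (a * (a * v * a⁻¹) * a⁻¹)) * (v * (a * (a * v * a⁻¹) * a⁻¹))]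

section

variable [P.Normal] {v : Y} {Λ : C4 → Y ⧸ P}
variable (S : Setting Q P a t u) (hcen : P ≤ Subgroup.center Y) (h2 : ∀ p ∈ P, p * p = 1)
include S hcen h2

theorem sq_coset {x p : Y} (hp : p ∈ P) : x * p * (x * p) = x * x := by
  calc x * p * (x * p) = x * (p * x) * p := by group
    _ = x * (x * p) * p := by rw [Subgroup.mem_center_iff.1 (hcen hp) x]
    _ = x * x * (p * p) := by group
    _ = x * x := by rw [h2 p hp, mul_one]

theorem sq_eq {x y : Y} (h : QuotientGroup.mk' P x = QuotientGroup.mk' P y) : x * x = y * y := by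
  have := sq_coset S hcen h2 (x := x) (QuotientGroup.eq.1 h)
  rw [mul_inv_cancel_left] at this
  exact this.symm

theorem sq_conj {x : Y} (hx : x ∈ Q) (g : Y) : g * x * g⁻¹ * (g * x * g⁻¹) = x * x := by
  calc g * x * g⁻¹ * (g * x * g⁻¹) = g * (x * x) * g⁻¹ := by group
    _ = x * x := by rw [Subgroup.mem_center_iff.1 (hcen (S.sq x hx)) g, mul_inv_cancel_right]

theorem Coords.sq (hv : v ∈ Q) (C : Coords Q P a v Λ) {x : Y} {c : C4}
    (hx : QuotientGroup.mk' P x = Λ c) : x * x = sqVal a v (cls c) := by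
  set π := QuotientGroup.mk' P with hπ
  haveI := S.qn
  have hconj : ∀ y ∈ Q, a * y * a⁻¹ ∈ Q := fun y hy => S.qn.conj_mem y hy a
  let r : Fin 4 → Y := ![1, v, v * (a * v * a⁻¹), v * (a * (a * v * a⁻¹) * a⁻¹)]
  have hrQ : ∀ j, r j ∈ Q := by
    intro j
    fin_cases j
    · exact one_mem Q
    · exact hv
    · exact mul_mem hv (hconj v hv)
    · exact mul_mem hv (hconj _ (hconj v hv))
  have hr : ∀ j, π (r j) = Λ (rep j) := by
    have e1 : Λ b1 = π (a * v * a⁻¹) := by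
      rw [map_mul, map_mul, map_inv, ← C.base, ← C.shift]; rfl
    have e2 : Λ b2 = π (a * (a * v * a⁻¹) * a⁻¹) := by
      rw [map_mul _ _ a⁻¹, map_mul _ a, map_inv, ← e1, ← C.shift]; rfl
    have e0 : Λ 0 = 1 := by
      have := C.add 0 0
      rw [add_zero] at this
      exact left_eq_mul.1 this
    intro j
    fin_cases j
    · exact (map_one π).trans e0.symm
    · exact C.base.symm
    · show π (v * (a * v * a⁻¹)) = Λ (b0 + b1)
      rw [map_mul, C.add, C.base, e1]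
    · show π (v * (a * (a * v * a⁻¹) * a⁻¹)) = Λ (b0 + b2)
      rw [map_mul, C.add, C.base, e2]
  have hit : ∀ (i : ℕ) (j : Fin 4), π (a ^ i * r j * (a ^ i)⁻¹) = Λ (sh^[i] (rep j)) := by
    intro i j
    induction i with
    | zero => simpa using hr j
    | succ i ih =>
      rw [Function.iterate_succ_apply', C.shift, ← ih, ← map_inv, ← map_mul, ← map_mul, pow_succ']
      congr 1
      group
  obtain ⟨i, hi⟩ := orbit c
  rw [hi, ← hit] at hx
  rw [sq_eq S hcen h2 hx, sq_conj S hcen h2 (hrQ _)]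
  generalize cls c = j
  fin_cases j <;> simp [r, sqVal]

theorem comm_mul_left (x y z : Y) (hy : y ∈ Q) (hz : z ∈ Q) : ⁅x * y, z⁆ = ⁅x, z⁆ * ⁅y, z⁆ := by
  have hP : ⁅y, z⁆ ∈ P := CfsgLib.NoSCN.comm_mem_of_squares (N := P.subgroupOf Q)
    (fun w => S.sq w w.2) ⟨y, hy⟩ ⟨z, hz⟩
  have hc := Subgroup.mem_center_iff.1 (hcen hP)
  calc ⁅x * y, z⁆ = x * ⁅y, z⁆ * x⁻¹ * ⁅x, z⁆ := by simp only [commutatorElement_def]; group
    _ = ⁅y, z⁆ * ⁅x, z⁆ := by rw [hc x, mul_inv_cancel_right]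
    _ = ⁅x, z⁆ * ⁅y, z⁆ := (hc _).symm

theorem comm_symm {x y : Y} (hx : x ∈ Q) (hy : y ∈ Q) : ⁅y, x⁆ = ⁅x, y⁆ := by
  rw [← commutatorElement_inv x y]
  exact inv_eq_of_mul_eq_one_right (h2 _ (CfsgLib.NoSCN.comm_mem_of_squares (N := P.subgroupOf Q)
    (fun w => S.sq w w.2) ⟨x, hx⟩ ⟨y, hy⟩))

theorem sq_prod {x y : Y} (hx : x ∈ Q) (hy : y ∈ Q) :
    x * y * (x * y) = x * x * (y * y) * ⁅x, y⁆ := by
  have hP : ⁅y, x⁆ ∈ P := CfsgLib.NoSCN.comm_mem_of_squares (N := P.subgroupOf Q)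
    (fun w => S.sq w w.2) ⟨y, hy⟩ ⟨x, hx⟩
  have hc := Subgroup.mem_center_iff.1 (hcen hP)
  calc x * y * (x * y) = x * (⁅y, x⁆ * (x * y)) * y := by simp only [commutatorElement_def]; group
    _ = x * ((x * y) * ⁅y, x⁆) * y := by rw [hc (x * y)]
    _ = x * x * y * (⁅y, x⁆ * y) := by group
    _ = x * x * y * (y * ⁅y, x⁆) := by rw [hc y]
    _ = x * x * (y * y) * ⁅x, y⁆ := by rw [comm_symm S hcen h2 hx hy]; group

/-- The commutators of the basis. -/
theorem Coords.comm (hv : v ∈ Q) (C : Coords Q P a v Λ) {x y : Y} (hx : x ∈ Q) (hy : y ∈ Q) {c d : C4}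
    (hxc : QuotientGroup.mk' P x = Λ c) (hyd : QuotientGroup.mk' P y = Λ d) :
    ⁅x, y⁆ = sqVal a v (cls c) * sqVal a v (cls d) * sqVal a v (cls (c + d)) := by
  rw [← C.sq S hcen h2 hv (x := x * y) (c := c + d) (by rw [map_mul, hxc, hyd, C.add]),
    ← C.sq S hcen h2 hv hxc, ← C.sq S hcen h2 hv hyd, sq_prod S hcen h2 hx hy, ← mul_assoc]
  rw [h2 _ (mul_mem (S.sq x hx) (S.sq y hy)), one_mul]

theorem Coords.relation (hv : v ∈ Q) (C : Coords Q P a v Λ) :
    sqVal a v 1 * sqVal a v 3 = sqVal a v 2 := by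
  set π := QuotientGroup.mk' P with hπ
  have lift : ∀ c, ∃ x ∈ Q, π x = Λ c := fun c => (C.image _).2 ⟨c, rfl⟩
  obtain ⟨x, hx, hxc⟩ := lift b0
  obtain ⟨y, hy, hyc⟩ := lift b1
  obtain ⟨w, hw, hwc⟩ := lift b2
  have h := C.sq S hcen h2 hv (x := x * y * w) (c := b0 + b1 + b2)
    (by rw [map_mul, map_mul, hxc, hyc, hwc, C.add, C.add])
  rw [sq_prod S hcen h2 (mul_mem hx hy) hw, comm_mul_left S hcen h2 x y w hy hw,
    C.sq S hcen h2 hv (x := x * y) (c := b0 + b1) (by rw [map_mul, hxc, hyc, C.add]),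
    C.sq S hcen h2 hv hwc, C.comm S hcen h2 hv hx hw hxc hwc, C.comm S hcen h2 hv hy hw hyc hwc] at h
  have c1 : cls (b0 + b1 + b2) = 2 := by decide
  have c2 : cls (b0 + b1) = 2 := by decide
  have c3 : cls (b0 + b2) = 3 := by decide
  have c4 : cls (b1 + b2) = 2 := by decide
  have c5 : cls b0 = 1 := by decide
  have c6 : cls b1 = 1 := by decide
  have c7 : cls b2 = 1 := by decide
  rw [c1, c2, c3, c4, c5, c6, c7] at h
  have hP : ∀ j, sqVal a v j ∈ P := by
    intro j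
    haveI := S.qn
    fin_cases j
    · exact one_mem P
    · exact S.sq v hv
    · exact S.sq _ (mul_mem hv (S.qn.conj_mem v hv a))
    · exact S.sq _ (mul_mem hv (S.qn.conj_mem _ (S.qn.conj_mem v hv a) a))
  have hcP : ∀ i j, sqVal a v i * sqVal a v j = sqVal a v j * sqVal a v i := fun i j =>
    (Subgroup.mem_center_iff.1 (hcen (hP i)) _).symm
  rw [h2 _ (hP 1)] at h
  simp only [one_mul] at h
  calc sqVal a v 1 * sqVal a v 3
      = sqVal a v 2 * sqVal a v 1 * (sqVal a v 3 * sqVal a v 2) := by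
        rw [hcP 3 2, ← mul_assoc, mul_assoc (sqVal a v 2), hcP 1 2, ← mul_assoc,
          h2 _ (hP 2), one_mul]
    _ = sqVal a v 2 := h

end

end CfsgLib.RankFourRadical
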