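import Cfsg.Agent.Lib.RankFourRadical.Basic
import Cfsg.Agent.Lib.Critical.Basic
import Cfsg.Agent.Lib.NoSCN.Central

/-!
The layers below the Frattini subgroup of the radical.
-/

set_option autoImplicit false
set_option linter.unusedSectionVars false
set_option linter.style.haveILetI false

namespace CfsgLib.RankFourRadical

open scoped commutatorElement
open CfsgLib.TwoRank

/-- A radical `Q` with Frattini subgroup `P`, an element `a` of order five without fixed points on
`Q / P`, an element `t` inverting it and an element `u` of order dividing three. -/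
structure Setting {Y : Type*} [Group Y] (Q P : Subgroup Y) (a t u : Y) : Prop where
  qn : Q.Normal
  pn : P.Normal
  le : P ≤ Q
  two : IsPGroup 2 Q
  rank : Cfsg.SectionalPRankLE 2 4 Y
  a5 : a ^ 5 = 1
  u3 : u ^ 3 = 1
  tQ : t * t ∈ Q
  ttc : ⁅a, t * t⁆ = 1
  tinv : t * a * t⁻¹ = a⁻¹
  cover : ∀ N : Subgroup Y, N.Normal → Q ≤ N → (a ∈ N ∨ u ∈ N) → N = ⊤
  sq : ∀ x ∈ Q, x * x ∈ P
  gen : ∀ K : Subgroup Y, (∀ x ∈ Q, x * x ∈ K) → P ≤ K
  fix : ∀ x ∈ Q, ⁅a, x⁆ ∈ P → x ∈ P
  card : Nat.card Q = 16 * Nat.card P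

/-- A minimal non-trivial normal subgroup inside `P`. -/
def IsMinNormal {Y : Type*} [Group Y] (M : Subgroup Y) : Prop :=
  M.Normal ∧ M ≠ ⊥ ∧ ∀ M' : Subgroup Y, M'.Normal → M' ≤ M → M' = ⊥ ∨ M' = M

namespace Setting

variable {Y : Type*} [Group Y] [Finite Y] {Q P : Subgroup Y} {a t u : Y}

theorem card_map_mul {N A : Subgroup Y} [N.Normal] (h : N ≤ A) :
    Nat.card (A.map (QuotientGroup.mk' N)) * Nat.card N = Nat.card A := by
  have h1 := ((QuotientGroup.mk' N).comp A.subtype).ker.card_mul_index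
  rw [Subgroup.index_ker, MonoidHom.range_comp, Subgroup.range_subtype] at h1
  have h2 : ((QuotientGroup.mk' N).comp A.subtype).ker = N.subgroupOf A := by
    rw [← MonoidHom.comap_ker, QuotientGroup.ker_mk']
    rfl
  rw [h2, Nat.card_congr (Subgroup.subgroupOfEquivOfLe h).toEquiv] at h1
  rw [← h1, mul_comm]

theorem quot (S : Setting Q P a t u) (N : Subgroup Y) [N.Normal] (hN : N ≤ P) :
    Setting (Q.map (QuotientGroup.mk' N)) (P.map (QuotientGroup.mk' N)) (QuotientGroup.mk' N a)
      (QuotientGroup.mk' N t) (QuotientGroup.mk' N u) := by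
  set π := QuotientGroup.mk' N with hπ
  have hs : Function.Surjective π := QuotientGroup.mk'_surjective N
  have hback : ∀ A : Subgroup Y, N ≤ A → ∀ x : Y, π x ∈ A.map π → x ∈ A := by
    intro A hA x hx
    obtain ⟨y, hy, e⟩ := Subgroup.mem_map.1 hx
    have := mul_mem hy (hA (QuotientGroup.eq.1 e))
    simpa using this
  refine ⟨S.qn.map π hs, S.pn.map π hs, Subgroup.map_mono S.le, S.two.map π, rank_quot S.rank N,
    by rw [← map_pow, S.a5, map_one], by rw [← map_pow, S.u3, map_one], ?_, ?_, ?_, ?_, ?_, ?_, ?_, ?_⟩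
  · rw [← map_mul]; exact ⟨_, S.tQ, rfl⟩
  · rw [← map_mul, ← map_commutatorElement, S.ttc, map_one]
  · rw [← map_inv, ← map_mul, ← map_mul, S.tinv, map_inv]
  · intro K hK hQK hau
    have h := S.cover (K.comap π) (hK.comap π)
      (fun x hx => hQK ⟨x, hx, rfl⟩) (hau.imp (fun h => h) fun h => h)
    rw [eq_top_iff]
    rintro y -
    obtain ⟨x, rfl⟩ := hs y
    exact (h.ge (Subgroup.mem_top x) : x ∈ K.comap π)
  · rintro _ ⟨x, hx, rfl⟩
    exact ⟨x * x, S.sq x hx, map_mul π x x⟩
  · intro K hK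
    refine Subgroup.map_le_iff_le_comap.2 (S.gen _ fun x hx => ?_)
    show π (x * x) ∈ K
    rw [map_mul]; exact hK _ ⟨x, hx, rfl⟩
  · rintro _ ⟨x, hx, rfl⟩ h
    rw [← map_commutatorElement] at h
    exact ⟨x, S.fix x hx (hback P hN _ h), rfl⟩
  · have h1 := card_map_mul (hN.trans S.le)
    have h2 := card_map_mul hN
    rw [S.card, ← h2, ← mul_assoc] at h1
    exact Nat.eq_of_mul_eq_mul_right Nat.card_pos h1

theorem a_not_mem (S : Setting Q P a t u) : a ∉ Q := fun ha => by
  have h1 : a = 1 := by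
    haveI : Fact (Nat.Prime 2) := ⟨Nat.prime_two⟩
    obtain ⟨k, hk⟩ := S.two ⟨a, ha⟩
    have hk' : a ^ 2 ^ k = 1 := congrArg Subtype.val hk
    exact orderOf_eq_one_iff.1 (Nat.eq_one_of_dvd_coprimes (Nat.Coprime.pow_left k (by norm_num))
      (orderOf_dvd_of_pow_eq_one hk') (orderOf_dvd_of_pow_eq_one S.a5))
  have hQP : Q ≤ P := fun x hx => S.fix x hx (by rw [h1, commutatorElement_one_left]; exact one_mem P)
  have := Subgroup.card_le_of_le hQP
  rw [S.card] at this
  have : 0 < Nat.card P := Nat.card_pos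
  omega

theorem t_not_mem (S : Setting Q P a t u) : t ∉ Q := fun ht => by
  haveI := S.qn
  have h : ⁅a, t⁆ ∈ Q := mul_mem (Subgroup.Normal.conj_mem inferInstance t ht a) (inv_mem ht)
  have e : ⁅a, t⁆ = a * a := by
    calc ⁅a, t⁆ = a * (t * a⁻¹ * t⁻¹) := by simp only [commutatorElement_def]; group
      _ = a * (t * a * t⁻¹)⁻¹ := by group
      _ = a * a := by rw [S.tinv, inv_inv]
  rw [e] at h
  refine S.a_not_mem ?_
  have h5 : a * a * (a * a) * (a * a) = a := by
    calc a * a * (a * a) * (a * a) = a ^ 5 * a := by simp [pow_succ, mul_assoc]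
      _ = a := by rw [S.a5, one_mul]
  rw [← h5]
  exact mul_mem (mul_mem h h) h

/-- A normal subgroup centralised by `Q` and `a` is central. -/
theorem le_center (S : Setting Q P a t u) {M : Subgroup Y} [M.Normal]
    (hQ : ∀ q ∈ Q, ∀ m ∈ M, q * m = m * q) (ha : ∀ m ∈ M, a * m = m * a) :
    M ≤ Subgroup.center Y := by
  have h := S.cover (Subgroup.centralizer (M : Set Y)) inferInstance
    (fun q hq => Subgroup.mem_centralizer_iff.2 fun m hm => (hQ q hq m hm).symm)
    (Or.inl (Subgroup.mem_centralizer_iff.2 fun m hm => (ha m hm).symm))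
  exact fun m hm => Subgroup.mem_center_iff.2 fun g =>
    ((Subgroup.mem_centralizer_iff.1 (h.ge (Subgroup.mem_top g))) m hm).symm

/-- The minimal normal subgroups inside `P`. -/
theorem min_facts (S : Setting Q P a t u) {M : Subgroup Y} (hM : IsMinNormal M) (hMP : M ≤ P) :
    (∀ q ∈ Q, ∀ m ∈ M, q * m = m * q) ∧ (∀ m ∈ M, m * m = 1) ∧
      ((Nat.card M = 2 ∧ M ≤ Subgroup.center Y) ∨
        (Nat.card M = 16 ∧ ∀ m ∈ M, ⁅a, m⁆ = 1 → m = 1)) := by
  haveI : Fact (Nat.Prime 2) := ⟨Nat.prime_two⟩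
  haveI := S.qn
  obtain ⟨hMn, hM1, hmin⟩ := hM
  have hMQ : M ≤ Q := hMP.trans S.le
  have hM2 : IsPGroup 2 M := S.two.to_le hMQ
  have hcQ : ∀ q ∈ Q, ∀ m ∈ M, q * m = m * q := by
    have hne : M ⊓ Subgroup.centralizer (Q : Set Y) ≠ ⊥ := by
      haveI := S.two.isNilpotent
      haveI : (M.subgroupOf Q).Normal := inferInstance
      have h1 : M.subgroupOf Q ≠ ⊥ := by
        rw [ne_eq, Subgroup.subgroupOf_eq_bot, disjoint_iff, inf_eq_left.2 hMQ]
        exact hM1
      obtain ⟨⟨z, hz⟩, hz1⟩ := Subgroup.ne_bot_iff_exists_ne_one.1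
        (CfsgLib.Critical.inf_center_ne_bot (M.subgroupOf Q) h1)
      refine fun hb => hz1 (Subtype.ext (Subtype.ext ?_))
      have hmem : (z : Y) ∈ M ⊓ Subgroup.centralizer (Q : Set Y) :=
        ⟨hz.1, Subgroup.mem_centralizer_iff.2 fun q hq =>
          congrArg Subtype.val (Subgroup.mem_center_iff.1 hz.2 ⟨q, hq⟩)⟩
      rw [hb, Subgroup.mem_bot] at hmem
      exact hmem
    have h2 := (hmin _ inferInstance inf_le_left).resolve_left hne
    exact fun q hq m hm => (Subgroup.mem_centralizer_iff.1 (h2.ge hm).2 q hq)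
  have hMc : ∀ m ∈ M, ∀ n ∈ M, m * n = n * m := fun m hm n hn => hcQ m (hMQ hm) n hn
  let Ω : Subgroup Y :=
    { carrier := {m | m ∈ M ∧ m * m = 1}
      one_mem' := ⟨one_mem M, one_mul 1⟩
      mul_mem' := by
        rintro x y ⟨hx, hx2⟩ ⟨hy, hy2⟩
        refine ⟨mul_mem hx hy, ?_⟩
        calc x * y * (x * y) = x * (y * x) * y := by group
          _ = (x * x) * (y * y) := by rw [hMc y hy x hx]; group
          _ = 1 := by rw [hx2, hy2, one_mul]
      inv_mem' := by
        rintro x ⟨hx, hx2⟩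
        exact ⟨inv_mem hx, by rw [← mul_inv_rev, hx2, inv_one]⟩ }
  haveI : Ω.Normal := ⟨fun m hm g => ⟨Subgroup.Normal.conj_mem hMn m hm.1 g, by
    calc g * m * g⁻¹ * (g * m * g⁻¹) = g * (m * m) * g⁻¹ := by group
      _ = 1 := by rw [hm.2, mul_one, mul_inv_cancel]⟩⟩
  have hΩ : Ω ≠ ⊥ := by
    obtain ⟨n, hn⟩ := hM2.exists_card_eq
    have hdvd : 2 ∣ Nat.card M := by
      rw [hn]
      refine dvd_pow_self 2 fun h0 => hM1 ?_
      rw [h0, pow_zero] at hn
      exact Subgroup.card_eq_one.1 hn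
    obtain ⟨m, hm⟩ := exists_prime_orderOf_dvd_card' 2 hdvd
    intro hb
    have hmem : (m : Y) ∈ Ω := ⟨m.2, by
      rw [← pow_two, ← hm, ← Subgroup.orderOf_coe, pow_orderOf_eq_one]⟩
    rw [hb, Subgroup.mem_bot] at hmem
    rw [← Subgroup.orderOf_coe, hmem, orderOf_one] at hm
    omega
  have hsq : ∀ m ∈ M, m * m = 1 := fun m hm => (((hmin Ω inferInstance fun _ h => h.1).resolve_left hΩ).ge hm).2
  refine ⟨hcQ, hsq, ?_⟩
  have hle : Nat.card M ≤ 16 := by
    have := CfsgLib.DEightWreath.card_le_of_sectional S.rank (X := M) (K := ⊥)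
      ⟨bot_le, fun x hx => by rw [Subgroup.mem_bot]; exact hsq x hx⟩
    simpa [Subgroup.card_bot] using this
  rcases dichotomy S.a5 M hM2 (fun m hm => Subgroup.Normal.conj_mem hMn m hm a) hle with h | h
  · have hcen := S.le_center hcQ fun m hm => commutatorElement_eq_one_iff_mul_comm.1 (h m hm)
    refine Or.inl ⟨?_, hcen⟩
    obtain ⟨⟨m, hm⟩, hm1⟩ := Subgroup.ne_bot_iff_exists_ne_one.1 hM1
    have hm1' : m ≠ 1 := fun h => hm1 (Subtype.ext h)
    haveI : (Subgroup.zpowers m).Normal := ⟨fun x hx g => by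
      have := Subgroup.mem_center_iff.1 (hcen ((Subgroup.zpowers_le.2 hm) hx)) g
      rwa [this, mul_inv_cancel_right]⟩
    rw [← (hmin _ inferInstance (Subgroup.zpowers_le.2 hm)).resolve_left
      (fun hb => hm1' (Subgroup.zpowers_eq_bot.1 hb)), Nat.card_zpowers]
    exact orderOf_eq_prime (by rw [pow_two]; exact hsq m hm) hm1'
  · exact Or.inr h

/-- No second free layer. -/
theorem no_free (S : Setting Q P a t u) (hc : ∀ q ∈ Q, ∀ p ∈ P, q * p = p * q)
    (h2 : ∀ p ∈ P, p * p = 1) (hcard : Nat.card P = 16) (hfpf : ∀ p ∈ P, ⁅a, p⁆ = 1 → p = 1) :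
    False := by
  haveI := S.qn
  haveI := S.pn
  have httP : t * t ∈ P := S.fix _ S.tQ (by rw [S.ttc]; exact one_mem P)
  have ht : t * t = 1 := hfpf _ httP S.ttc
  have htinv : t⁻¹ = t := inv_eq_of_mul_eq_one_right ht
  have htconj : ∀ {N : Subgroup Y}, N.Normal → ∀ x ∈ N, t * x * t ∈ N := by
    intro N hN x hx
    have := hN.conj_mem x hx t
    rwa [htinv] at this
  obtain ⟨hF4, -⟩ := half S.a5 ht S.tinv P (fun u hu v hv => hc u (S.le hu) v hv) h2
    (fun v hv => S.pn.conj_mem v hv a) (htconj S.pn) hcard hfpf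
  set F := P ⊓ Subgroup.centralizer {t} with hFdef
  have hFt : ∀ f ∈ F, t * f * t = f := fun f hf => by
    rw [← Subgroup.mem_centralizer_singleton_iff.1 hf.2, mul_assoc, ht, mul_one]
  -- the quotient by `P`
  set π := QuotientGroup.mk' P with hπ
  have S' := S.quot P le_rfl
  have hPb : P.map π = ⊥ := by rw [Subgroup.map_eq_bot_iff, QuotientGroup.ker_mk']
  have hQcard : Nat.card (Q.map π) = 16 := by
    rw [S'.card, hPb, Subgroup.card_bot, mul_one]
  have hQsq : ∀ v ∈ Q.map π, v * v = 1 := fun v hv => by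
    have := S'.sq v hv
    rwa [hPb, Subgroup.mem_bot] at this
  have hht : π t * π t = 1 := by rw [← map_mul, ht, map_one]
  have hQfpf : ∀ v ∈ Q.map π, ⁅π a, v⁆ = 1 → v = 1 := fun v hv h => by
    have := S'.fix v hv (by rw [h]; exact one_mem _)
    rwa [hPb, Subgroup.mem_bot] at this
  have hQc : ∀ v ∈ Q.map π, ∀ w ∈ Q.map π, v * w = w * v := by
    intro v hv w hw
    calc v * w = (v * w)⁻¹ := (inv_eq_of_mul_eq_one_right (hQsq _ (mul_mem hv hw))).symm
      _ = w * v := by
        rw [mul_inv_rev, inv_eq_of_mul_eq_one_right (hQsq v hv), inv_eq_of_mul_eq_one_right (hQsq w hw)]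
  obtain ⟨hV4, hVnorm⟩ := half S'.a5 hht S'.tinv (Q.map π) hQc hQsq
    (fun v hv => S'.qn.conj_mem v hv _)
    (fun v hv => by
      have := S'.qn.conj_mem v hv (π t)
      rwa [inv_eq_of_mul_eq_one_right hht] at this) hQcard hQfpf
  -- the elements of `Q` whose commutator with `t` is fixed
  let K : Subgroup Y :=
    { carrier := {g | g ∈ Q ∧ ⁅t, g⁆ ∈ F}
      one_mem' := ⟨one_mem Q, by rw [commutatorElement_one_right]; exact one_mem F⟩
      mul_mem' := by
        rintro g h ⟨hg, hg'⟩ ⟨hh, hh'⟩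
        refine ⟨mul_mem hg hh, ?_⟩
        have e : ⁅t, g * h⁆ = ⁅t, g⁆ * (g * ⁅t, h⁆ * g⁻¹) := by
          simp only [commutatorElement_def]; group
        rw [e, hc g hg _ hh'.1, mul_inv_cancel_right]
        exact mul_mem hg' hh'
      inv_mem' := by
        rintro g ⟨hg, hg'⟩
        refine ⟨inv_mem hg, ?_⟩
        have e : ⁅t, g⁻¹⁆ = g⁻¹ * ⁅t, g⁆⁻¹ * g := by simp only [commutatorElement_def]; group
        rw [e, hc g⁻¹ (inv_mem hg) _ (F.inv_mem hg').1, inv_mul_cancel_right]
        exact inv_mem hg' }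
  have hKP : P ≤ K := fun p hp => by
    refine ⟨S.le hp, P.mul_mem ?_ (P.inv_mem hp), ?_⟩
    · rw [htinv]; exact htconj S.pn p hp
    · refine Subgroup.mem_centralizer_singleton_iff.2 ?_
      have e : ⁅t, p⁆ = t * p * t * p := by
        rw [commutatorElement_def, htinv, inv_eq_of_mul_eq_one_right (h2 p hp)]
      rw [e]
      calc t * p * t * p * t = t * (p * (t * p * t)) := by group
        _ = t * ((t * p * t) * p) := by rw [hc p (S.le hp) _ (htconj S.pn p hp)]
  have hKcard : 64 ≤ Nat.card K := by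
    have hsub : Q.map π ⊓ Subgroup.centralizer {π t} ≤ K.map π := by
      intro f hf
      obtain ⟨v, hv, rfl⟩ := hVnorm f hf
      obtain ⟨y, hy, rfl⟩ := hv
      refine ⟨y * (t * y * t), ⟨mul_mem hy (htconj S.qn y hy), ?_⟩, by simp⟩
      have hy' := htconj S.qn y hy
      have hd : ⁅t * y * t, y⁆ ∈ P := CfsgLib.NoSCN.comm_mem_of_squares
        (N := P.subgroupOf Q) (fun z => S.sq z z.2) ⟨_, hy'⟩ ⟨y, hy⟩
      have e : ⁅t, y * (t * y * t)⁆ = ⁅t * y * t, y⁆ := by
        calc ⁅t, y * (t * y * t)⁆ = t * y * t * y * (t * t) * (t * y * t)⁻¹ * y⁻¹ := by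
              simp only [commutatorElement_def, htinv]; group
          _ = ⁅t * y * t, y⁆ := by rw [ht, mul_one, commutatorElement_def]
      rw [e]
      refine ⟨hd, Subgroup.mem_centralizer_singleton_iff.2 ?_⟩
      have e2 : t * ⁅t * y * t, y⁆ * t⁻¹ = ⁅t * (t * y * t) * t⁻¹, t * y * t⁻¹⁆ := by
        simp only [commutatorElement_def]; group
      rw [htinv, show t * (t * y * t) * t = (t * t) * y * (t * t) by group, ht, one_mul, mul_one] at e2
      rw [← commutatorElement_inv (t * y * t) y, inv_eq_of_mul_eq_one_right (h2 _ hd)] at e2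
      calc ⁅t * y * t, y⁆ * t = t * ⁅t * y * t, y⁆ * t * t := by rw [e2]
        _ = t * ⁅t * y * t, y⁆ := by rw [mul_assoc _ t t, ht, mul_one]
    have h4 := Subgroup.card_le_of_le hsub
    rw [hV4] at h4
    have := card_map_mul hKP
    rw [hcard] at this
    change Nat.card (K.map π) * 16 = Nat.card K at this
    omega
  have hKt : ∀ g ∈ K, t * g * t ∈ K := by
    intro g hg
    have e : t * g * t = ⁅t, g⁆ * g := by rw [commutatorElement_def, htinv]; group
    rw [e]
    exact mul_mem (hKP hg.2.1) hg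
  let U : Subgroup Y :=
    { carrier := {g | g ∈ K ∨ g * t ∈ K}
      one_mem' := Or.inl (one_mem K)
      mul_mem' := by
        rintro x y (hx | hx) (hy | hy)
        · exact Or.inl (mul_mem hx hy)
        · exact Or.inr (by rw [mul_assoc]; exact mul_mem hx hy)
        · refine Or.inr ?_
          have e : x * y * t = (x * t) * (t * y * t) := by
            calc x * y * t = x * (t * t) * y * t := by rw [ht, mul_one]
              _ = _ := by group
          rw [e]; exact mul_mem hx (hKt y hy)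
        · refine Or.inl ?_
          have e : x * y = (x * t) * (t * (y * t) * t) := by
            calc x * y = x * (t * t) * y * (t * t) := by rw [ht, mul_one, mul_one]
              _ = _ := by group
          rw [e]; exact mul_mem hx (hKt _ hy)
      inv_mem' := by
        rintro x (hx | hx)
        · exact Or.inl (inv_mem hx)
        · refine Or.inr ?_
          have e : x⁻¹ * t = t * (x * t)⁻¹ * t := by
            rw [mul_inv_rev, htinv, ← mul_assoc t t, ht, one_mul]
          rw [e]; exact hKt _ (inv_mem hx) }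
  have hU : 2 * Nat.card K ≤ Nat.card U :=
    CfsgLib.NoSCN.card_two_mul_le (a := t) (fun g hg => Or.inl hg)
      (Or.inr (by rw [ht]; exact one_mem K)) (fun h => S.t_not_mem h.1)
  have hsqU : SqLE U F := by
    refine ⟨fun f hf => Or.inl (hKP hf.1), ?_⟩
    have hk2 : ∀ k ∈ K, k * k ∈ F := by
      intro k hk
      refine ⟨S.sq k hk.1, Subgroup.mem_centralizer_singleton_iff.2 ?_⟩
      have e : t * k * t = ⁅t, k⁆ * k := by rw [commutatorElement_def, htinv]; group
      calc k * k * t = (t * t) * (k * k) * t := by rw [ht, one_mul]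
        _ = t * ((t * k * t) * (t * k * t)) := by
          rw [show t * ((t * k * t) * (t * k * t)) = (t * t) * k * (t * t) * k * t by group, ht]
          group
        _ = t * (⁅t, k⁆ * (k * ⁅t, k⁆) * k) := by rw [e]; group
        _ = t * ((⁅t, k⁆ * ⁅t, k⁆) * (k * k)) := by rw [hc k hk.1 _ hk.2.1]; group
        _ = t * (k * k) := by rw [h2 _ hk.2.1, one_mul]
    rintro g (hg | hg)
    · exact hk2 g hg
    · have e : g * g = (g * t) * (⁅t, g * t⁆ * (g * t)) := by
        simp only [commutatorElement_def, htinv]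
        calc g * g = g * (t * t) * g * (t * t) := by rw [ht, mul_one, mul_one]
          _ = _ := by group
      rw [e, ← mul_assoc, hc _ hg.1 _ hg.2.1, mul_assoc]
      exact mul_mem hg.2 (hk2 _ hg)
  have := CfsgLib.DEightWreath.card_le_of_sectional S.rank hsqU
  rw [hF4] at this
  omega

end Setting

end CfsgLib.RankFourRadical
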